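import Cfsg.Agent.Lib.ConjRankThree.Basic
import Cfsg.Agent.Lib.ClassSize.FourSizes.Contradiction
import Cfsg.Agent.Lib.ClassSize.TwoRegular.Main
import Cfsg.Agent.Lib.TwoClassSizes.Basic
import Cfsg.Agent.Lib.Factor.KegelWielandt
import Cfsg.Agent.Lib.Char.Burnside

/-!
# Nonsolvable groups with trivial centre and three nontrivial class sizes, one dividing another
-/

set_option autoImplicit false
set_option linter.unusedSectionVars false

namespace CfsgLib.ClassSize.RankThree

open Subgroup CfsgLib.ConjRankThree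

universe u

variable {G : Type u} [Group G]

/-- The class size of `g`. -/
noncomputable abbrev idx (g : G) : ℕ := (Cent g).index

/-- `G` is nonsolvable with trivial centre, its nontrivial class sizes are `na`, `nb`, `nc`, and
`nb` properly divides `na`. -/
structure Data (G : Type u) [Group G] (na nb nc : ℕ) : Prop where
  ns : ¬ Group.IsSolvable G
  zbot : center G = ⊥
  sizes : ∀ g : G, g ≠ 1 → idx g = na ∨ idx g = nb ∨ idx g = nc
  exA : ∃ g : G, g ≠ 1 ∧ idx g = na
  exB : ∃ g : G, g ≠ 1 ∧ idx g = nb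
  exC : ∃ g : G, g ≠ 1 ∧ idx g = nc
  dvd : nb ∣ na
  ne_ab : na ≠ nb
  ne_ac : na ≠ nc
  ne_bc : nb ≠ nc

theorem idx_conj (g x : G) : idx (g * x * g⁻¹) = idx x := by
  rw [idx, cent_conj]
  exact index_map_of_bijective (MulAut.conj g).bijective (Cent x)

theorem conj_ne_one {g x : G} (hx : x ≠ 1) : g * x * g⁻¹ ≠ 1 := fun h => hx (conj_eq_one_iff.1 h)

theorem one_notMem_type {g : G} {n : ℕ} (h : idx g = n) (hn : 1 < n) : g ≠ 1 := by
  rintro rfl
  have : idx (1 : G) = 1 := index_eq_one.2 (eq_top_iff.2 fun a _ => mem_cent.2 (Commute.one_right a))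
  omega

variable [Finite G]

theorem idx_dvd_of_le {u v : G} (h : Cent u ≤ Cent v) : idx v ∣ idx u := index_dvd_of_le h

theorem idx_ne_zero (g : G) : idx g ≠ 0 := index_ne_zero_of_finite

theorem eq_of_le_of_idx {u v : G} (h : Cent u ≤ Cent v) (hi : idx u = idx v) : Cent u = Cent v := by
  refine eq_of_le_of_card_ge h ?_
  have h1 := cc_mul_index u
  have h2 := cc_mul_index v
  rw [show (Cent u).index = (Cent v).index from hi] at h1
  exact (Nat.eq_of_mul_eq_mul_right (Nat.pos_of_ne_zero (idx_ne_zero v)) (h2.trans h1.symm)).le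

theorem cc_eq_of_idx {u v : G} (hi : idx u = idx v) : cc u = cc v := by
  have h1 := cc_mul_index u
  have h2 := cc_mul_index v
  rw [show (Cent u).index = (Cent v).index from hi] at h1
  exact Nat.eq_of_mul_eq_mul_right (Nat.pos_of_ne_zero (idx_ne_zero v)) (h1.trans h2.symm)

theorem inf_cent_le_mul (x y : G) : Cent x ⊓ Cent y ≤ Cent (x * y) := fun _ h =>
  mem_cent.2 ((mem_cent.1 h.1).mul_right (mem_cent.1 h.2))

/-- The centraliser of a product of commuting elements of coprime order. -/
theorem cent_mul {x y : G} (hc : Commute x y) (hco : (orderOf x).Coprime (orderOf y)) :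
    Cent (x * y) = Cent x ⊓ Cent y :=
  CfsgLib.ClassSize.Three.Cz_mul_eq hc hco

theorem coprime_of_prime_pow {x y : G} {p q i j : ℕ} (hp : p.Prime) (hq : q.Prime) (hpq : p ≠ q)
    (hx : orderOf x = p ^ i) (hy : orderOf y = q ^ j) : (orderOf x).Coprime (orderOf y) := by
  rw [hx, hy]
  exact Nat.Coprime.pow i j ((Nat.coprime_primes hp hq).2 hpq)

namespace Data

variable {na nb nc : ℕ} (D : Data G na nb nc)
include D

theorem one_lt_idx {g : G} (hg : g ≠ 1) : 1 < idx g := by
  have h0 := idx_ne_zero g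
  have h1 : idx g ≠ 1 := fun h => hg (by
    have h2 : g ∈ center G := (CfsgLib.ClassSize.Three.index_Cz_eq_one_iff g).1 h
    rwa [D.zbot, mem_bot] at h2)
  omega

theorem one_lt_na : 1 < na := by
  obtain ⟨g, hg, rfl⟩ := D.exA
  exact D.one_lt_idx hg

theorem one_lt_nb : 1 < nb := by
  obtain ⟨g, hg, rfl⟩ := D.exB
  exact D.one_lt_idx hg

theorem one_lt_nc : 1 < nc := by
  obtain ⟨g, hg, rfl⟩ := D.exC
  exact D.one_lt_idx hg

theorem ne_one_a {g : G} (h : idx g = na) : g ≠ 1 := one_notMem_type h D.one_lt_na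
theorem ne_one_b {g : G} (h : idx g = nb) : g ≠ 1 := one_notMem_type h D.one_lt_nb
theorem ne_one_c {g : G} (h : idx g = nc) : g ≠ 1 := one_notMem_type h D.one_lt_nc

/-- Every prime has a central element in a Sylow subgroup, of class size prime to it. -/
theorem coprime_bc : nb.Coprime nc := by
  refine Nat.coprime_of_dvd fun p hp h1 h2 => ?_
  obtain ⟨x, -, hxb⟩ := D.exB
  have hpG : p ∣ Nat.card G :=
    (h1.trans (hxb ▸ dvd_rfl)).trans (Dvd.intro_left _ (cc_mul_index x))
  obtain ⟨z, P, hz, -, -, hzi⟩ := exists_central_elem hp hpG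
  rcases D.sizes z (ne_one_of_prime_order hp hz) with h | h | h
  · exact hzi ((h1.trans D.dvd).trans h.symm.dvd)
  · exact hzi (h1.trans h.symm.dvd)
  · exact hzi (h2.trans h.symm.dvd)

theorem not_a_dvd_b : ¬ na ∣ nb := fun h => D.ne_ab (Nat.dvd_antisymm h D.dvd)

theorem not_a_dvd_c : ¬ na ∣ nc := fun h => by
  have := Nat.eq_one_of_dvd_coprimes D.coprime_bc dvd_rfl (D.dvd.trans h)
  have := D.one_lt_nb
  omega

theorem not_b_dvd_c : ¬ nb ∣ nc := fun h => by
  have := Nat.eq_one_of_dvd_coprimes D.coprime_bc dvd_rfl h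
  have := D.one_lt_nb
  omega

theorem not_c_dvd_b : ¬ nc ∣ nb := fun h => by
  have := Nat.eq_one_of_dvd_coprimes D.coprime_bc h dvd_rfl
  have := D.one_lt_nc
  omega

/-- If `nc` divides `na` the rôles of `nb` and `nc` may be exchanged. -/
theorem swap (h : nc ∣ na) : Data G na nc nb :=
  ⟨D.ns, D.zbot, fun g hg => (D.sizes g hg).imp_right Or.symm, D.exA, D.exC, D.exB, h, D.ne_ac,
    D.ne_ab, D.ne_bc.symm⟩

theorem b_of_le {u v : G} (hv : v ≠ 1) (hu : idx u = nb) (h : Cent u ≤ Cent v) :
    idx v = nb ∧ Cent v = Cent u := by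
  have hd : idx v ∣ nb := hu ▸ idx_dvd_of_le h
  have hb : idx v = nb := by
    rcases D.sizes v hv with e | e | e
    · exact absurd (e ▸ hd) D.not_a_dvd_b
    · exact e
    · exact absurd (e ▸ hd) D.not_c_dvd_b
  exact ⟨hb, (eq_of_le_of_idx h (hu.trans hb.symm)).symm⟩

theorem c_of_le {u v : G} (hv : v ≠ 1) (hu : idx u = nc) (h : Cent u ≤ Cent v) :
    idx v = nc ∧ Cent v = Cent u := by
  have hd : idx v ∣ nc := hu ▸ idx_dvd_of_le h
  have hc : idx v = nc := by
    rcases D.sizes v hv with e | e | e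
    · exact absurd (e ▸ hd) D.not_a_dvd_c
    · exact absurd (e ▸ hd) D.not_b_dvd_c
    · exact e
  exact ⟨hc, (eq_of_le_of_idx h (hu.trans hc.symm)).symm⟩

/-- The centralisers with the largest class size are minimal. -/
theorem minimal_a {u : G} (hu : idx u = na) (hna : ¬ na ∣ nc := D.not_a_dvd_c) : Minimal' u := by
  intro v hv h
  have hd : na ∣ idx v := hu ▸ idx_dvd_of_le h
  rcases D.sizes v hv with e | e | e
  · exact eq_of_le_of_idx h (e.trans hu.symm)
  · exact absurd (e ▸ hd) D.not_a_dvd_b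
  · exact absurd (e ▸ hd) hna

theorem minimal_c {u : G} (hu : idx u = nc) (hca : ¬ nc ∣ na) : Minimal' u := by
  intro v hv h
  have hd : nc ∣ idx v := hu ▸ idx_dvd_of_le h
  rcases D.sizes v hv with e | e | e
  · exact absurd (e ▸ hd) hca
  · exact absurd (e ▸ hd) D.not_c_dvd_b
  · exact eq_of_le_of_idx h (e.trans hu.symm)

theorem cent_le_of_a {v u : G} (hv : idx v = na) (hu : u ∈ Cent v)
    (hco : (orderOf u).Coprime (orderOf v)) : Cent v ≤ Cent u :=
  le_cent_of_coprime (D.minimal_a hv) (D.ne_one_a hv) hu hco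

theorem exists_prime_b : ∃ (p : ℕ) (x : G), p.Prime ∧ orderOf x = p ∧ idx x = nb := by
  obtain ⟨g, hg, hgb⟩ := D.exB
  obtain ⟨p, v, hp, hv, -, hle⟩ := exists_prime_power_elem hg
  exact ⟨p, v, hp, hv, (D.b_of_le (ne_one_of_prime_order hp hv) hgb hle).1⟩

theorem exists_prime_c : ∃ (p : ℕ) (x : G), p.Prime ∧ orderOf x = p ∧ idx x = nc := by
  obtain ⟨g, hg, hgc⟩ := D.exC
  obtain ⟨p, v, hp, hv, -, hle⟩ := exists_prime_power_elem hg
  exact ⟨p, v, hp, hv, (D.c_of_le (ne_one_of_prime_order hp hv) hgc hle).1⟩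

/-- A prime divisor of `nb` has a Sylow-central element with class size `nc`. -/
theorem exists_central_c {r : ℕ} (hr : r.Prime) (hd : r ∣ nb) :
    ∃ (z : G) (P : Sylow r G), orderOf z = r ∧ z ∈ (P : Subgroup G) ∧ (P : Subgroup G) ≤ Cent z ∧
      idx z = nc := by
  obtain ⟨x, -, hxb⟩ := D.exB
  have hrG : r ∣ Nat.card G :=
    (hd.trans (hxb ▸ dvd_rfl)).trans (Dvd.intro_left _ (cc_mul_index x))
  obtain ⟨z, P, hz, hzP, hP, hzi⟩ := exists_central_elem hr hrG
  refine ⟨z, P, hz, hzP, hP, ?_⟩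
  rcases D.sizes z (ne_one_of_prime_order hr hz) with h | h | h
  · exact absurd ((hd.trans D.dvd).trans h.symm.dvd) hzi
  · exact absurd (hd.trans h.symm.dvd) hzi
  · exact h

/-- Commuting elements of coprime orders do not have class sizes `nb` and `nc`. -/
theorem star {u w : G} (hu : idx u = nb) (hw : idx w = nc) (hc : Commute u w)
    (hco : (orderOf u).Coprime (orderOf w)) : False := by
  have hcent := cent_mul hc hco
  have hd1 : nb ∣ idx (u * w) := hu ▸ idx_dvd_of_le (hcent.le.trans inf_le_left)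
  have hd2 : nc ∣ idx (u * w) := hw ▸ idx_dvd_of_le (hcent.le.trans inf_le_right)
  have hd : nb * nc ∣ idx (u * w) := D.coprime_bc.mul_dvd_of_dvd_of_dvd hd1 hd2
  have hle : idx (u * w) ≤ nb * nc := by
    rw [← hu, ← hw, idx, hcent]
    exact index_inf_le
  have heq : idx (u * w) = nb * nc :=
    le_antisymm hle (Nat.le_of_dvd (Nat.pos_of_ne_zero (idx_ne_zero _)) hd)
  have hb1 := D.one_lt_nb
  have hc1 := D.one_lt_nc
  have hna : na = nb * nc := by
    have hne : u * w ≠ 1 := one_notMem_type heq (one_lt_mul'' hb1 hc1)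
    rcases D.sizes _ hne with e | e | e
    · rw [← e, heq]
    · exact absurd (e ▸ hd2) D.not_c_dvd_b
    · exact absurd (e ▸ hd1) D.not_b_dvd_c
  refine D.ns ?_
  have hH : CfsgLib.ClassSize.FourSizes.Hyp G nb nc := by
    refine ⟨hb1, hc1, D.coprime_bc, fun g => ?_, ?_, ?_, ⟨u * w, heq⟩⟩
    · by_cases hg : g = 1
      · subst hg
        exact Or.inl ((CfsgLib.ClassSize.Three.index_Cz_eq_one_iff (1 : G)).2 (one_mem _))
      · rcases D.sizes g hg with e | e | e
        · exact Or.inr (Or.inr (Or.inr (e.trans hna)))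
        · exact Or.inr (Or.inl e)
        · exact Or.inr (Or.inr (Or.inl e))
    · obtain ⟨g, -, hg⟩ := D.exB; exact ⟨g, hg⟩
    · obtain ⟨g, -, hg⟩ := D.exC; exact ⟨g, hg⟩
  haveI := hH.nilpotent.1
  infer_instance

/-- The centralisers of elements of prime order with class size `nb` are solvable. -/
theorem isSolvable_cent {x : G} {p : ℕ} (hp : p.Prime) (hxo : orderOf x = p) (hx : idx x = nb) :
    Group.IsSolvable (Cent x) := by
  classical
  set H := Cent x with hH
  haveI := Fact.mk hp
  have hsize : ∀ h : H, (orderOf h).Coprime p → h ∉ center H →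
      (Subgroup.centralizer ({h} : Set H)).index = na / nb := by
    intro h hco hZ
    have hhx : (h : G) ∈ Cent x := h.2
    have hc : Commute x (h : G) := (mem_cent.1 hhx).symm
    have hcent := cent_mul hc (by rw [hxo, orderOf_coe]; exact hco.symm)
    have hsub : Subgroup.centralizer ({h} : Set H) = (Cent (h : G)).subgroupOf H := by
      ext g
      simp [mem_subgroupOf, mem_centralizer_singleton_iff, Subtype.ext_iff]
    have hne : (h : G) ≠ 1 := fun e => hZ (by
      rw [show h = 1 from Subtype.ext e]; exact one_mem _)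
    have hne' : x * (h : G) ≠ 1 := fun e => by
      have h1 : orderOf x = orderOf (h : G) := by rw [eq_inv_of_mul_eq_one_left e, orderOf_inv]
      rw [hxo, orderOf_coe] at h1
      rw [← h1, Nat.coprime_self] at hco
      exact hp.ne_one hco
    have hd : nb ∣ idx (x * (h : G)) := hx ▸ idx_dvd_of_le (hcent.le.trans inf_le_left)
    rw [hsub]
    show (Cent (h : G)).relIndex H = na / nb
    have hmul : (Cent (h : G)).relIndex H * nb = idx (x * (h : G)) := by
      rw [← inf_relIndex_right, ← hx, idx, idx, hcent, inf_comm (Cent x)]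
      exact relIndex_mul_index inf_le_right
    rcases D.sizes _ hne' with e | e | e
    · rw [← e, ← hmul, Nat.mul_div_cancel _ (by have := D.one_lt_nb; omega)]
    · exfalso
      have h1 : Cent (x * (h : G)) = Cent x :=
        eq_of_le_of_idx (hcent.le.trans inf_le_left) (e.trans hx.symm)
      refine hZ (mem_center_iff.2 fun g => Subtype.ext ?_)
      have h2 : Cent x ≤ Cent (h : G) := h1.symm.le.trans (hcent.le.trans inf_le_right)
      exact (mem_cent.1 (h2 g.2)).eq
    · exact absurd (e ▸ hd) D.not_b_dvd_c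
  by_cases hall : ∀ h : H, (orderOf h).Coprime p → h ∈ center H
  · -- the quotient by the centre is a `p`-group
    have hq : IsPGroup p (H ⧸ center H) := by
      intro g
      obtain ⟨h, rfl⟩ := QuotientGroup.mk_surjective g
      obtain ⟨a, b, -, -, -, hab, ⟨k, hk⟩, hb⟩ := CfsgLib.ClassSize.Three.exists_split p h
      refine ⟨k, ?_⟩
      rw [← hab, QuotientGroup.mk_mul, (QuotientGroup.eq_one_iff b).2 (hall b hb), mul_one,
        ← QuotientGroup.mk_pow, ← hk, pow_orderOf_eq_one, QuotientGroup.mk_one]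
    haveI : Group.IsNilpotent (H ⧸ center H) := hq.isNilpotent
    haveI : Group.IsSolvable (center H) := Group.isSolvable_of_comm fun a b =>
      Subtype.ext (mem_center_iff.1 b.2 (a : H))
    exact Group.isSolvable_of_ker_le_range (center H).subtype (QuotientGroup.mk' (center H)) (by simp)
  push Not at hall
  obtain ⟨h₀, h₀c, h₀Z⟩ := hall
  have hne1 : 1 ≠ na / nb := fun e =>
    D.ne_ab ((Nat.div_mul_cancel D.dvd).symm.trans (by rw [← e, one_mul]))
  have hrange : Set.range (fun h : {h : H // (orderOf h).Coprime p} =>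
      (ConjClasses.mk (h : H)).carrier.ncard) = {1, na / nb} := by
    ext n
    simp only [Set.mem_range, Set.mem_insert_iff, Set.mem_singleton_iff,
      CfsgLib.ClassSize.TwoRegular.carrier_ncard]
    constructor
    · rintro ⟨⟨h, hh⟩, rfl⟩
      by_cases hZ : h ∈ center H
      · exact Or.inl ((CfsgLib.ClassSize.Three.index_Cz_eq_one_iff h).2 hZ)
      · exact Or.inr (hsize h hh hZ)
    · rintro (rfl | rfl)
      · exact ⟨⟨1, by simp⟩, (CfsgLib.ClassSize.Three.index_Cz_eq_one_iff (1 : H)).2 (one_mem _)⟩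
      · exact ⟨⟨h₀, h₀c⟩, hsize h₀ h₀c h₀Z⟩
  rcases CfsgLib.ClassSize.TwoRegular.main hp (by rw [hrange]; exact Set.ncard_pair hne1) with
    ⟨A, hA, hpA, k, hk⟩ | ⟨q, hq, P, Q, A, -, hAc, hcard, hn, -, htop⟩
  · obtain ⟨P⟩ : Nonempty (Sylow p H) := inferInstance
    haveI := P.2.isNilpotent
    haveI : Group.IsNilpotent A := by
      letI : CommGroup A := { (inferInstance : Group A) with mul_comm := hA.is_comm.comm }
      infer_instance
    exact CfsgLib.Factor.isSolvable_of_nilpotent_factor (A := A) (B := (P : Subgroup H))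
      inferInstance inferInstance (CfsgLib.TwoClassSizes.exists_mul (by
        rw [hk]
        exact ((hp.coprime_iff_not_dvd.2 P.not_dvd_index).pow_left k)))
  · haveI := hn
    set N := (P : Subgroup H) ⊔ (Q : Subgroup H) with hN
    haveI : Group.IsSolvable N := by
      refine CfsgLib.Char.isSolvable_of_two_primes p q hp hq.out _ _ rfl fun r hr hd => ?_
      rw [hcard] at hd
      rcases (hr.dvd_mul).1 hd with h | h
      · obtain ⟨i, hi⟩ := IsPGroup.iff_card.1 P.2
        exact Or.inl ((Nat.prime_dvd_prime_iff_eq hr hp).1 (hr.dvd_of_dvd_pow (hi ▸ h)))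
      · obtain ⟨i, hi⟩ := IsPGroup.iff_card.1 Q.2
        exact Or.inr ((Nat.prime_dvd_prime_iff_eq hr hq.out).1 (hr.dvd_of_dvd_pow (hi ▸ h)))
    haveI : Group.IsSolvable (H ⧸ N) := by
      refine Group.isSolvable_of_comm fun a b => ?_
      obtain ⟨a, rfl⟩ := QuotientGroup.mk_surjective a
      obtain ⟨b, rfl⟩ := QuotientGroup.mk_surjective b
      have ha : a ∈ N ⊔ A := htop ▸ mem_top a
      obtain ⟨n, hn', c, hc, rfl⟩ := mem_sup_of_normal_left.1 ha
      rw [QuotientGroup.mk_mul, (QuotientGroup.eq_one_iff n).2 hn', one_mul,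
        ← QuotientGroup.mk_mul, ← QuotientGroup.mk_mul, mem_center_iff.1 (hAc hc) b]
    exact Group.isSolvable_of_ker_le_range N.subtype (QuotientGroup.mk' N) (by simp)

end Data

end CfsgLib.ClassSize.RankThree
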