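import Cfsg.Agent.Lib.ClassSize.RankThree.Basic
import Cfsg.Agent.Lib.ThreeClass.Basic

/-!
# Three class sizes: two of them cannot both divide the third
-/

set_option autoImplicit false
set_option linter.unusedSectionVars false

namespace CfsgLib.ClassSize.RankThree

open Subgroup CfsgLib.ConjRankThree

universe u

variable {G : Type u} [Group G] [Finite G]

/-- Two nilpotent subgroups containing, for every prime, a full Sylow subgroup outside a solvable
normal subgroup force solvability. -/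
theorem isSolvable_of_cover (R A B : Subgroup G) [R.Normal] (hR : Group.IsSolvable R)
    (hA : Group.IsNilpotent A) (hB : Group.IsNilpotent B)
    (h : ∀ r : ℕ, r.Prime → r ∣ R.index → ¬ r ∣ A.index ∨ ¬ r ∣ B.index) : Group.IsSolvable G := by
  set π := QuotientGroup.mk' R with hπ
  have hsurj : Function.Surjective π := QuotientGroup.mk'_surjective R
  have hidx : ∀ C : Subgroup G, (C.map π).index ∣ R.index := fun C => by
    rw [index_map, MonoidHom.range_eq_top.2 hsurj, index_top, mul_one, QuotientGroup.ker_mk']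
    exact index_dvd_of_le le_sup_right
  have hcop : (A.map π).index.Coprime (B.map π).index := Nat.coprime_of_dvd fun r hr h1 h2 => by
    rcases h r hr (h1.trans (hidx A)) with e | e
    · exact e (h1.trans (index_map_dvd A hsurj))
    · exact e (h2.trans (index_map_dvd B hsurj))
  haveI : Group.IsSolvable (G ⧸ R) := CfsgLib.Factor.isSolvable_of_nilpotent_factor
    (Group.nilpotent_of_surjective (π.subgroupMap A) (π.subgroupMap_surjective A))
    (Group.nilpotent_of_surjective (π.subgroupMap B) (π.subgroupMap_surjective B))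
    (CfsgLib.TwoClassSizes.exists_mul hcop)
  exact Group.isSolvable_of_ker_le_range R.subtype π (by simp [hπ])

/-- A normal subgroup containing all `r`-elements has index prime to `r`. -/
theorem not_dvd_index_of_elements {N : Subgroup G} {r : ℕ} (hr : r.Prime)
    (h : ∀ g : G, (∃ k, orderOf g = r ^ k) → g ∈ N) : ¬ r ∣ N.index := by
  haveI := Fact.mk hr
  obtain ⟨P⟩ : Nonempty (Sylow r G) := inferInstance
  exact fun hd => P.not_dvd_index (hd.trans (index_dvd_of_le fun g hg =>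
    h g (CfsgLib.ClassSize.Three.orderOf_of_mem P.2 hg)))

namespace Data

variable {na nb nc : ℕ} (D : Data G na nb nc)
include D

theorem card_inf {x y : G} (hx : idx x = nb) (hy : idx y = nc) :
    Nat.card ↥(Cent x ⊓ Cent y) * (nb * nc) = Nat.card G := by
  have h := card_mul_index (Cent x ⊓ Cent y)
  rwa [CfsgLib.TwoClassSizes.index_inf_eq (show (Cent x).index.Coprime (Cent y).index by
    rw [show (Cent x).index = nb from hx, show (Cent y).index = nc from hy]; exact D.coprime_bc),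
    show (Cent x).index = nb from hx, show (Cent y).index = nc from hy] at h

theorem card_inf_eq {x y x' y' : G} (hx : idx x = nb) (hy : idx y = nc) (hx' : idx x' = nb)
    (hy' : idx y' = nc) :
    Nat.card ↥(Cent x ⊓ Cent y) = Nat.card ↥(Cent x' ⊓ Cent y') :=
  Nat.eq_of_mul_eq_mul_right (Nat.mul_pos (by have := D.one_lt_nb; omega) (by have := D.one_lt_nc; omega))
    ((D.card_inf hx hy).trans (D.card_inf hx' hy').symm)

/-- The primes of the intersection of two maximal centralisers. -/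
theorem prime_of_inf {x y : G} {p l r : ℕ} (hp : p.Prime) (hl : l.Prime) (hpl : p ≠ l)
    (hxo : orderOf x = p) (hx : idx x = nb) (hyo : orderOf y = l) (hy : idx y = nc) (hr : r.Prime)
    (hd : r ∣ Nat.card ↥(Cent x ⊓ Cent y)) : r = p ∨ r = l := by
  by_contra hno
  push Not at hno
  haveI := Fact.mk hr
  obtain ⟨⟨v, hv⟩, hvo⟩ := exists_prime_orderOf_dvd_card' (G := ↥(Cent x ⊓ Cent y)) r hd
  rw [orderOf_mk] at hvo
  have hvx : Commute v x := mem_cent.1 hv.1
  have hvy : Commute v y := mem_cent.1 hv.2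
  have hco : ∀ {g : G} {s : ℕ}, s.Prime → orderOf g = s → r ≠ s → (orderOf v).Coprime (orderOf g) :=
    fun hs hg hrs => by rw [hvo, hg]; exact (Nat.coprime_primes hr hs).2 hrs
  rcases D.sizes v (ne_one_of_prime_order hr hvo) with e | e | e
  · have hle := D.cent_le_of_a e (mem_cent.2 hvx.symm) (hco hp hxo hno.1).symm
    exact D.star hx hy (mem_cent.1 (hle (mem_cent.2 hvy.symm))).symm
      (by rw [hxo, hyo]; exact (Nat.coprime_primes hp hl).2 hpl)
  · exact D.star e hy hvy (hco hl hyo hno.2)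
  · exact D.star hx e hvx.symm (hco hp hxo hno.1).symm

/-- The case in which `nb` is a prime power. -/
theorem false_of_both_aux (hca : nc ∣ na) {l : ℕ} (hl : l.Prime)
    (hnb : ∀ r : ℕ, r.Prime → r ∣ nb → r = l) : False := by
  have hnb1 := D.one_lt_nb
  have hnc1 := D.one_lt_nc
  obtain ⟨l', hl', hl'd⟩ := Nat.exists_prime_and_dvd (show nb ≠ 1 by omega)
  have hlnb : l ∣ nb := hnb l' hl' hl'd ▸ hl'd
  obtain ⟨y, -, hyo, -, -, hy⟩ := D.exists_central_c hl hlnb
  obtain ⟨p₁, hp₁, hp₁d⟩ := Nat.exists_prime_and_dvd (show nc ≠ 1 by omega)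
  have hne : ∀ {p : ℕ}, p ∣ nc → p ≠ l := fun {p} hp e => by
    have := Nat.eq_one_of_dvd_coprimes D.coprime_bc hlnb (e ▸ hp)
    exact hl.ne_one this
  obtain ⟨x₁, -, hx₁o, -, -, hx₁⟩ := (D.swap hca).exists_central_c hp₁ hp₁d
  have hd₁ := fun {r : ℕ} (hr : r.Prime) (hd : r ∣ Nat.card ↥(Cent x₁ ⊓ Cent y)) =>
    D.prime_of_inf hp₁ hl (hne hp₁d) hx₁o hx₁ hyo hy hr hd
  have hG := D.card_inf hx₁ hy
  by_cases hone : ∀ r : ℕ, r.Prime → r ∣ nc → r = p₁
  · refine D.ns (CfsgLib.Char.isSolvable_of_two_primes p₁ l hp₁ hl _ _ rfl fun r hr hd => ?_)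
    rw [← hG] at hd
    rcases hr.dvd_mul.1 hd with h | h
    · exact hd₁ hr h
    · rcases hr.dvd_mul.1 h with h | h
      · exact Or.inr (hnb r hr h)
      · exact Or.inl (hone r hr h)
  push Not at hone
  obtain ⟨p₂, hp₂, hp₂d, hp21⟩ := hone
  obtain ⟨x₂, -, hx₂o, -, -, hx₂⟩ := (D.swap hca).exists_central_c hp₂ hp₂d
  have hdl : ∀ r : ℕ, r.Prime → r ∣ Nat.card ↥(Cent x₁ ⊓ Cent y) → r = l := by
    intro r hr hd
    rcases hd₁ hr hd with h | h
    · rcases D.prime_of_inf hp₂ hl (hne hp₂d) hx₂o hx₂ hyo hy hr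
        (D.card_inf_eq hx₁ hy hx₂ hy ▸ hd) with h' | h'
      · exact absurd (h'.symm.trans h) hp21
      · exact h'
    · exact h
  obtain ⟨R, hRn, hRs, hRmax⟩ := CfsgLib.ThreeClass.exists_radical G
  haveI := hRn
  have hbR : ∀ g : G, idx g = nb → g ∈ R := fun g hg =>
    CfsgLib.ThreeClass.mem_radical_of_index hRmax hl
      (k := nb.primeFactorsList.length) (hg.trans
        (Nat.eq_prime_pow_of_unique_prime_dvd (by omega) fun {d} hd hdd => hnb d hd hdd))
  refine D.ns ?_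
  haveI := Fact.mk hl
  obtain ⟨P⟩ : Nonempty (Sylow l G) := inferInstance
  refine isSolvable_of_cover R (P : Subgroup G) (P : Subgroup G) hRs P.2.isNilpotent P.2.isNilpotent
    fun r hr hrd => ?_
  by_cases hrl : r = l
  · exact Or.inl (hrl ▸ P.not_dvd_index)
  refine absurd hrd (not_dvd_index_of_elements hr fun g ⟨k, hk⟩ => ?_)
  by_cases hg : g = 1
  · exact hg ▸ one_mem R
  have hrg : r ∣ cc g := by
    refine dvd_trans ?_ (orderOf_dvd_cc g)
    rw [hk]
    exact dvd_pow_self r fun e => hg (orderOf_eq_one_iff.1 (by rw [hk, e, pow_zero]))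
  have hdG := cc_mul_index g
  rcases D.sizes g hg with e | e | e
  · exfalso
    obtain ⟨m, hm⟩ := (D.coprime_bc.mul_dvd_of_dvd_of_dvd D.dvd hca)
    rw [show (Cent g).index = na from e, hm, ← hG] at hdG
    have h2 : cc g ∣ Nat.card ↥(Cent x₁ ⊓ Cent y) := ⟨m, by
      refine Nat.eq_of_mul_eq_mul_right (Nat.mul_pos (by omega : 0 < nb) (by omega : 0 < nc)) ?_
      rw [← hdG]; ring⟩
    exact hrl (hdl r hr (hrg.trans h2))
  · exact hbR g e
  · exfalso
    rw [show (Cent g).index = nc from e, ← hG] at hdG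
    have h2 : cc g = Nat.card ↥(Cent x₁ ⊓ Cent y) * nb :=
      Nat.eq_of_mul_eq_mul_right (by omega : 0 < nc) (by rw [hdG]; ring)
    rcases hr.dvd_mul.1 (h2 ▸ hrg) with h | h
    · exact hrl (hdl r hr h)
    · exact hrl (hnb r hr h)

/-- Not both `nb` and `nc` divide `na`. -/
theorem not_both : ¬ nc ∣ na := by
  intro hca
  have hnb1 := D.one_lt_nb
  have hnc1 := D.one_lt_nc
  obtain ⟨l₁, hl₁, hl₁d⟩ := Nat.exists_prime_and_dvd (show nb ≠ 1 by omega)
  by_cases hB : ∀ r : ℕ, r.Prime → r ∣ nb → r = l₁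
  · exact D.false_of_both_aux hca hl₁ hB
  obtain ⟨p₁, hp₁, hp₁d⟩ := Nat.exists_prime_and_dvd (show nc ≠ 1 by omega)
  by_cases hC : ∀ r : ℕ, r.Prime → r ∣ nc → r = p₁
  · exact (D.swap hca).false_of_both_aux D.dvd hp₁ hC
  push Not at hB hC
  obtain ⟨l₂, hl₂, hl₂d, hl21⟩ := hB
  obtain ⟨p₂, hp₂, hp₂d, hp21⟩ := hC
  have hne : ∀ {p l : ℕ}, p.Prime → p ∣ nc → l ∣ nb → p ≠ l := fun {p l} hp h1 h2 e =>
    hp.ne_one (Nat.eq_one_of_dvd_coprimes D.coprime_bc (e ▸ h2) h1)
  obtain ⟨y₁, -, hy₁o, -, -, hy₁⟩ := D.exists_central_c hl₁ hl₁d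
  obtain ⟨y₂, -, hy₂o, -, -, hy₂⟩ := D.exists_central_c hl₂ hl₂d
  obtain ⟨x₁, -, hx₁o, -, -, hx₁⟩ := (D.swap hca).exists_central_c hp₁ hp₁d
  obtain ⟨x₂, -, hx₂o, -, -, hx₂⟩ := (D.swap hca).exists_central_c hp₂ hp₂d
  have hgt : 1 < Nat.card ↥(Cent x₁ ⊓ Cent y₁) := by
    obtain ⟨g, hg, hga⟩ := D.exA
    obtain ⟨m, hm⟩ := (D.coprime_bc.mul_dvd_of_dvd_of_dvd D.dvd hca)
    have h1 := cc_mul_index g
    rw [show (Cent g).index = na from hga, hm, ← D.card_inf hx₁ hy₁] at h1
    have h2 : Nat.card ↥(Cent x₁ ⊓ Cent y₁) = cc g * m :=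
      Nat.eq_of_mul_eq_mul_right (Nat.mul_pos (by omega : 0 < nb) (by omega : 0 < nc))
        (by rw [← h1]; ring)
    have h3 := two_le_cc hg
    rcases Nat.eq_zero_or_pos m with hm0 | hm0
    · have := D.one_lt_na; rw [hm, hm0, mul_zero] at this; omega
    · have h4 := Nat.le_mul_of_pos_right (cc g) hm0
      omega
  obtain ⟨r, hr, hrd⟩ := Nat.exists_prime_and_dvd hgt.ne'
  have e11 := D.prime_of_inf hp₁ hl₁ (hne hp₁ hp₁d hl₁d) hx₁o hx₁ hy₁o hy₁ hr hrd
  have e22 := D.prime_of_inf hp₂ hl₂ (hne hp₂ hp₂d hl₂d) hx₂o hx₂ hy₂o hy₂ hr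
    (D.card_inf_eq hx₁ hy₁ hx₂ hy₂ ▸ hrd)
  have n12 := hne hp₁ hp₁d hl₂d
  have n21 := hne hp₂ hp₂d hl₁d
  omega

end Data

end CfsgLib.ClassSize.RankThree
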