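import Cfsg.Agent.Lib.ClassSize.RankThree.Setup

/-!
# The normal closure, modulo `O`, of an element of the smaller class size
-/

set_option autoImplicit false
set_option linter.unusedSectionVars false

namespace CfsgLib.ClassSize.RankThree

open Subgroup CfsgLib.ConjRankThree

universe u

variable {G : Type u} [Group G]

/-- The normal closure of the image of `x` modulo `O`. -/
def clo (O : Subgroup G) [O.Normal] (x : G) : Subgroup (G ⧸ O) :=
  normalClosure ({QuotientGroup.mk' O x} : Set (G ⧸ O))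

instance (O : Subgroup G) [O.Normal] (x : G) : (clo O x).Normal := normalClosure_normal

theorem mem_clo (O : Subgroup G) [O.Normal] (x g : G) :
    QuotientGroup.mk' O (g * x * g⁻¹) ∈ clo O x := by
  rw [map_mul, map_mul, map_inv]
  exact normalClosure_normal.conj_mem _ (subset_normalClosure (Set.mem_singleton _)) _

theorem clo_le_of {O : Subgroup G} [O.Normal] {x : G} {H : Subgroup (G ⧸ O)}
    (h : ∀ g : G, QuotientGroup.mk' O (g * x * g⁻¹) ∈ H) : clo O x ≤ H := by
  refine (closure_le _).2 fun w hw => ?_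
  obtain ⟨z, hz, hzw⟩ := Group.mem_conjugatesOfSet_iff.1 hw
  rw [Set.mem_singleton_iff.1 hz] at hzw
  obtain ⟨c, rfl⟩ := isConj_iff.1 hzw
  obtain ⟨g, rfl⟩ := QuotientGroup.mk'_surjective O c
  rw [← map_inv, ← map_mul, ← map_mul]
  exact h g

namespace Setup

variable [Finite G] {na nb nc : ℕ} {W O R : Subgroup G} [O.Normal] (S : Setup na nb nc W O R)
  {x : G} {p : ℕ} (hp : p.Prime) (hpb : ¬ p ∣ nb) (hxo : orderOf x = p) (hx : idx x = nb)
include S hp hpb hxo hx

theorem commute_conj_mk (a b : G) :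
    Commute (QuotientGroup.mk' O (a * x * a⁻¹)) (QuotientGroup.mk' O (b * x * b⁻¹)) := by
  have h := commute_of_commutator_mem (S.comm x p hp hpb hxo hx (a⁻¹ * b))
  have h' := h.map (MulAut.conj (QuotientGroup.mk' O a)).toMonoidHom
  simp only [MulEquiv.coe_toMonoidHom, MulAut.conj_apply, ← map_inv, ← map_mul] at h'
  rwa [show a * (a⁻¹ * b * x * (a⁻¹ * b)⁻¹) * a⁻¹ = b * x * b⁻¹ by group] at h'

theorem commute_clo {s t : G ⧸ O} (hs : s ∈ clo O x) (ht : t ∈ clo O x) : Commute s t := by
  have h1 : ∀ a : G, clo O x ≤ Cent (QuotientGroup.mk' O (a * x * a⁻¹)) := fun a =>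
    clo_le_of fun b => mem_cent.2 (S.commute_conj_mk hp hpb hxo hx a b).symm
  have h2 : clo O x ≤ Cent t := clo_le_of fun a => mem_cent.2 (mem_cent.1 (h1 a ht)).symm
  exact mem_cent.1 (h2 hs)

theorem clo_le_cent : clo O x ≤ Cent (QuotientGroup.mk' O x) := fun s hs => by
  have h := mem_clo O x 1
  rw [one_mul, inv_one, mul_one] at h
  exact mem_cent.2 (S.commute_clo hp hpb hxo hx hs h)

theorem isPGroup_clo : IsPGroup p (clo O x) := by
  intro t
  refine ⟨1, Subtype.ext ?_⟩
  rw [pow_one]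
  simp only [SubmonoidClass.coe_pow, OneMemClass.coe_one]
  obtain ⟨t, ht⟩ := t
  show t ^ p = 1
  suffices h : ∀ s ∈ clo O x, s ∈ clo O x ∧ s ^ p = 1 from (h t ht).2
  intro s hs
  let H : Subgroup (G ⧸ O) :=
    { carrier := {s | s ∈ clo O x ∧ s ^ p = 1}
      one_mem' := ⟨one_mem _, one_pow _⟩
      mul_mem' := fun {a b} ha hb => ⟨mul_mem ha.1 hb.1, by
        rw [(S.commute_clo hp hpb hxo hx ha.1 hb.1).mul_pow, ha.2, hb.2, one_mul]⟩
      inv_mem' := fun {a} ha => ⟨inv_mem ha.1, by rw [inv_pow, ha.2, inv_one]⟩ }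
  exact clo_le_of (H := H) (fun g => ⟨mem_clo O x g, by
    rw [← map_pow, conj_pow, ← hxo, pow_orderOf_eq_one, mul_one, mul_inv_cancel, map_one]⟩) hs

theorem mem_R_of_centralizes {v : G} (h : clo O x ≤ Cent (QuotientGroup.mk' O v)) : v ∈ R := by
  set π := QuotientGroup.mk' O with hπ
  set N := (centralizer (clo O x : Set (G ⧸ O))).comap π with hN
  have hv : v ∈ N := mem_comap.2 (mem_centralizer_iff.2 fun t ht => mem_cent.1 (h ht))
  have hle : N ≤ Cent x ⊔ O := by
    intro g hg
    have h1 : π g ∈ Cent (π x) := by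
      refine mem_cent.2 ((mem_centralizer_iff.1 (mem_comap.1 hg) (π x) ?_).symm)
      have h := mem_clo O x 1
      rwa [one_mul, inv_one, mul_one] at h
    rw [S.cent_map (S.coprimeO hp hpb (hxo.trans (pow_one p).symm))] at h1
    obtain ⟨c, hc, hcg⟩ := h1
    have h2 : c⁻¹ * g ∈ O := QuotientGroup.eq.1 hcg
    rw [← mul_inv_cancel_left c g]
    exact mul_mem (mem_sup_left hc) (mem_sup_right h2)
  haveI : Group.IsSolvable ↥(Cent x ⊔ O) := CfsgLib.Components.isSolvable_sup
    (S.data.isSolvable_cent hp hxo hx) S.solvO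
    (by rw [normalizer_eq_top_iff.2 inferInstance]; exact le_top)
  exact S.rmax N inferInstance (Group.isSolvable_of_isSolvable_injective (inclusion_injective hle)) hv

theorem self_mem_clo : QuotientGroup.mk' O x ∈ clo O x := by
  have h := mem_clo O x 1
  rwa [one_mul, inv_one, mul_one] at h

end Setup

end CfsgLib.ClassSize.RankThree
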