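import Cfsg.Agent.Lib.ClassSize.RankThree.RegCore
import Cfsg.Agent.Lib.ClassSize.RankThree.Both
import Cfsg.Agent.Lib.LocEven.Measure

/-!
# Core-free centralisers: two-transitivity gives a contradiction
-/

set_option autoImplicit false
set_option linter.unusedSectionVars false

open MulAction

namespace CfsgLib.ClassSize.RankThree

open CfsgLib CfsgLib.ConjRankThree

universe u

variable {G : Type u} [Group G]

/-- Centralisers of class size `nc` are self-centralizing of order `nb`, those of class size `nb`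
are core-free. -/
structure CoreFree (G : Type u) [Group G] (na nb nc : ℕ) : Prop where
  data : Data G na nb nc
  sc : ∀ w : G, idx w = nc → CA.SelfCent (Cent w)
  hprod : nb * nc = Nat.card G
  core : ∀ u : G, idx u = nb → (Cent u).normalCore = ⊥

namespace CoreFree

variable [Finite G] {na nb nc : ℕ} (H : CoreFree G na nb nc)
include H

theorem cc_b {u : G} (hu : idx u = nb) : cc u = nc := by
  have h := cc_mul_index u
  rw [show (Cent u).index = nb from hu, ← H.hprod, mul_comm nb] at h
  exact Nat.eq_of_mul_eq_mul_right (by have := H.data.one_lt_nb; omega) h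

theorem cc_c {w : G} (hw : idx w = nc) : cc w = nb := by
  have h := cc_mul_index w
  rw [show (Cent w).index = nc from hw, ← H.hprod] at h
  exact Nat.eq_of_mul_eq_mul_right (by have := H.data.one_lt_nc; omega) h

theorem not_normal {w : G} (hw : idx w = nc) : ¬ (Cent w).Normal := by
  intro hn
  haveI := hn
  obtain ⟨p, x, hp, hxo, hx⟩ := H.data.exists_prime_b
  haveI := H.data.isSolvable_cent hp hxo hx
  haveI : Group.IsSolvable (Cent w) := Group.isSolvable_of_comm fun a b =>
    Subtype.ext ((H.sc w hw).comm a.2 b.2)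
  haveI : Group.IsSolvable (G ⧸ Cent w) := by
    refine Group.isSolvable_of_surjective (f := (QuotientGroup.mk' (Cent w)).comp (Cent x).subtype) ?_
    intro z
    obtain ⟨g, rfl⟩ := QuotientGroup.mk'_surjective (Cent w) z
    obtain ⟨c, hc, d, hd, rfl⟩ := CfsgLib.TwoClassSizes.exists_mul (A := Cent x) (B := Cent w)
      (by rw [show (Cent x).index = nb from hx, show (Cent w).index = nc from hw]
          exact H.data.coprime_bc) g
    refine ⟨⟨c, hc⟩, ?_⟩
    rw [map_mul, show QuotientGroup.mk' (Cent w) d = 1 from (QuotientGroup.eq_one_iff d).2 hd, mul_one]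
    rfl
  exact H.data.ns (Group.isSolvable_of_ker_le_range (Cent w).subtype (QuotientGroup.mk' (Cent w))
    (by simp))

theorem regSetup {y w : G} (hyb : idx y = nb) (hwc : idx w = nc) : RegSetup (Cent w) (Cent y) := by
  refine ⟨H.sc w hwc, ?_, ?_⟩
  · show (cc w).Coprime (cc y)
    rw [H.cc_b hyb, H.cc_c hwc]
    exact H.data.coprime_bc
  · show cc w * cc y = _
    rw [H.cc_b hyb, H.cc_c hwc, H.hprod]

/-- An element of the second order fixes only one point of the action on its own cosets. -/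
theorem eq_of_fixed_self {y : G} (hyb : idx y = nb) {ω : G ⧸ Cent y}
    (hω : y • ω = ω) : ω = ((1 : G) : G ⧸ Cent y) := by
  cases nonempty_fintype G
  haveI : Fintype (G ⧸ Cent y) := Fintype.ofFinite _
  obtain ⟨w, -, hwc⟩ := H.data.exC
  haveI : Fintype (Cent w) := Fintype.ofFinite _
  have hS := H.regSetup hyb hwc
  by_contra hne1
  have hfix1 : y • ((1 : G) : G ⧸ Cent y) = ((1 : G) : G ⧸ Cent y) := by
    rw [Quotient.smul_mk, QuotientGroup.eq, smul_eq_mul]
    simp [self_mem]
  have hall : ∀ η : G ⧸ Cent y, y • η = η := by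
    intro η
    by_cases e : η = ((1 : G) : G ⧸ Cent y)
    · rw [e, hfix1]
    obtain ⟨g, hg1, hg2⟩ := Reg.two_transitive hS (H.not_normal hwc) (H.core y hyb) (Ne.symm hne1) (Ne.symm e)
    have hgy : Commute g y := by
      rw [Quotient.smul_mk, QuotientGroup.eq, smul_eq_mul, mul_one, mul_one] at hg1
      exact mem_cent.1 ((Subgroup.inv_mem_iff _).1 hg1)
    rw [← hg2, ← mul_smul, ← hgy.eq, mul_smul, hω]
  have hcore : y ∈ (Cent y).normalCore := fun x => by
    have := hall (QuotientGroup.mk x⁻¹)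
    rw [Quotient.smul_mk, QuotientGroup.eq, smul_eq_mul] at this
    simpa [mul_assoc] using (Cent y).inv_mem this
  exact H.data.ne_one_b hyb (Subgroup.mem_bot.1 (H.core y hyb ▸ hcore))

/-- Every element of the second order fixes exactly one point, and is the only one up to centralisers. -/
theorem exists_point {y u : G} (hyb : idx y = nb) (hub : idx u = nb) :
    ∃ g : G, Cent u = Cent (g * y * g⁻¹) ∧
      ∀ ω : G ⧸ Cent y, u • ω = ω → ω = (g : G ⧸ Cent y) := by
  classical
  cases nonempty_fintype G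
  haveI : Fintype (G ⧸ Cent y) := Fintype.ofFinite _
  haveI : Fintype (G ⧸ Cent u) := Fintype.ofFinite _
  obtain ⟨w, -, hwc⟩ := H.data.exC
  haveI : Fintype (Cent w) := Fintype.ofFinite _
  obtain ⟨χ, hχ, hπ⟩ := Reg.piFun_eq_one_add (H.regSetup hyb hwc) (H.not_normal hwc) (H.core y hyb)
  obtain ⟨χ', hχ', hπ'⟩ := Reg.piFun_eq_one_add (H.regSetup hub hwc) (H.not_normal hwc) (H.core u hub)
  have hsum : ∑ g : G, Nat.card (fixedBy (G ⧸ Cent y) g) * Nat.card (fixedBy (G ⧸ Cent u) g) =
      Nat.card (orbitRel.Quotient G ((G ⧸ Cent y) × (G ⧸ Cent u))) * Nat.card G := by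
    rw [← PermDerange.sum_card_fixedBy]
    refine Finset.sum_congr rfl fun g _ => ?_
    rw [← Nat.card_prod]
    exact Nat.card_congr
      { toFun := fun x => ⟨(x.1.1, x.2.1), Prod.ext x.1.2 x.2.2⟩
        invFun := fun x => (⟨x.1.1, congrArg Prod.fst x.2⟩, ⟨x.1.2, congrArg Prod.snd x.2⟩)
        left_inv := fun x => rfl
        right_inv := fun x => rfl }
  have h2 : 2 ≤ Nat.card (orbitRel.Quotient G ((G ⧸ Cent y) × (G ⧸ Cent u))) := by
    by_contra h
    have hs : Subsingleton (orbitRel.Quotient G ((G ⧸ Cent y) × (G ⧸ Cent u))) :=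
      Finite.card_le_one_iff_subsingleton.1 (by omega)
    have hpre := (pretransitive_iff_subsingleton_quotient G ((G ⧸ Cent y) × (G ⧸ Cent u))).2 hs
    have hd : Nat.card ((G ⧸ Cent y) × (G ⧸ Cent u)) ∣ Nat.card G := by
      have p₀ : (G ⧸ Cent y) × (G ⧸ Cent u) := (((1 : G) : G ⧸ Cent y), ((1 : G) : G ⧸ Cent u))
      rw [← MulAction.index_stabilizer_of_transitive G p₀]
      exact Subgroup.index_dvd_card _
    rw [Nat.card_prod] at hd
    rw [show Nat.card (G ⧸ Cent y) = nb from hyb, show Nat.card (G ⧸ Cent u) = nb from hub,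
      ← H.hprod] at hd
    exact H.data.not_b_dvd_c (Nat.dvd_of_mul_dvd_mul_left (by have := H.data.one_lt_nb; omega) hd)
  have hin : Cfsg.classInner (PermChar.piFun G (G ⧸ Cent y)) (PermChar.piFun G (G ⧸ Cent u)) =
      Nat.card (orbitRel.Quotient G ((G ⧸ Cent y) × (G ⧸ Cent u))) := by
    have h := congrArg (Nat.cast : ℕ → ℂ) hsum
    push_cast at h
    simp only [Cfsg.classInner, PermChar.piFun, map_natCast]
    rw [h, mul_comm (Nat.card (orbitRel.Quotient G _) : ℂ),
      inv_mul_cancel_left₀ (Nat.cast_ne_zero.2 Nat.card_pos.ne')]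
  have heq : χ = χ' := by
    by_contra e
    rw [hπ, hπ', show (fun g => 1 + (χ : G → ℂ) g) =
      (Char.principalIrr : Cfsg.IrrCharacter G).1 + (χ : G → ℂ) from funext fun g => by simp,
      show (fun g => 1 + (χ' : G → ℂ) g) =
      (Char.principalIrr : Cfsg.IrrCharacter G).1 + (χ' : G → ℂ) from funext fun g => by simp] at hin
    simp only [Char.classInner_add_left, Char.classInner_add_right, Char.classInner_irrCharacter,
      if_true, if_neg hχ, if_neg (Ne.symm hχ'), if_neg e] at hin
    norm_num at hin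
    have hin' : (1 : ℕ) = Nat.card (orbitRel.Quotient G ((G ⧸ Cent y) × (G ⧸ Cent u))) := by
      rw [Nat.card_eq_fintype_card]
      exact_mod_cast hin
    omega
  have hval : Nat.card (fixedBy (G ⧸ Cent y) u) = Nat.card (fixedBy (G ⧸ Cent u) u) := by
    have h : PermChar.piFun G (G ⧸ Cent y) u = PermChar.piFun G (G ⧸ Cent u) u := by
      rw [hπ, hπ', heq]
    exact Nat.cast_injective h
  have hone : Nat.card (fixedBy (G ⧸ Cent u) u) = 1 := by
    rw [Nat.card_eq_one_iff_unique]
    refine ⟨⟨fun p q => Subtype.ext ?_⟩, ⟨⟨((1 : G) : G ⧸ Cent u), ?_⟩⟩⟩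
    · exact (H.eq_of_fixed_self hub p.2).trans (H.eq_of_fixed_self hub q.2).symm
    · rw [mem_fixedBy, Quotient.smul_mk, QuotientGroup.eq, smul_eq_mul]
      simp [self_mem]
  rw [hone, Nat.card_eq_one_iff_unique] at hval
  obtain ⟨⟨huniq⟩, ⟨⟨ω, hω⟩⟩⟩ := hval
  obtain ⟨g, rfl⟩ := QuotientGroup.mk_surjective ω
  have huniq' : ∀ η : G ⧸ Cent y, u • η = η → η = (g : G ⧸ Cent y) := fun η hη =>
    congrArg Subtype.val (huniq ⟨η, hη⟩ ⟨_, hω⟩)
  refine ⟨g, eq_of_le_of_idx (fun h hh => ?_) (by rw [hub, idx_conj, hyb]), huniq'⟩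
  have h1 : u • h • (g : G ⧸ Cent y) = h • (g : G ⧸ Cent y) := by
    rw [← mul_smul, ← (mem_cent.1 hh).eq, mul_smul]
    exact congrArg (h • ·) hω
  have h2 := huniq' _ h1
  rw [Quotient.smul_mk, QuotientGroup.eq, smul_eq_mul] at h2
  rw [cent_conj, Subgroup.mem_map_equiv, MulAut.conj_symm_apply]
  have h3 := (Cent y).inv_mem h2
  simpa [mul_assoc] using h3

/-- The prime order of an element fixing two points is that of any element of the second order. -/
theorem prime_eq {y u x : G} {r s : ℕ} (hr : r.Prime) (hs : s.Prime) (hyb : idx y = nb) (hox : orderOf x = r) {p q : G ⧸ Cent y} (hpq : p ≠ q) (hxp : x • p = p)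
    (hxq : x • q = q) (hou : orderOf u = s) (hub : idx u = nb) :
    idx x = na ∧ s = r ∧ ∃ v v' : G, orderOf v = s ∧ orderOf v' = s ∧ v ∈ Cent x ∧ v' ∈ Cent x ∧
      ¬ Commute v v' := by
  classical
  cases nonempty_fintype G
  haveI : Fintype (G ⧸ Cent y) := Fintype.ofFinite _
  obtain ⟨w, -, hwc⟩ := H.data.exC
  haveI : Fintype (Cent w) := Fintype.ofFinite _
  have hS := H.regSetup hyb hwc
  have hu := ne_one_of_prime_order hs hou
  have hx := ne_one_of_prime_order hr hox
  obtain ⟨g, hCu, hugu⟩ := H.exists_point hyb hub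
  obtain ⟨q₀, hq₀⟩ : ∃ q₀ : G ⧸ Cent y, q₀ ≠ (g : G ⧸ Cent y) := by
    by_contra h
    push Not at h
    exact hpq ((h p).trans (h q).symm)
  obtain ⟨k, hk1, hk2⟩ := Reg.two_transitive hS (H.not_normal hwc) (H.core y hyb) hq₀ hpq
  -- `u' := k u k⁻¹` fixes only `q`, `u'' := k' u k'⁻¹` fixes only `p`
  obtain ⟨k', hk'1, hk'2⟩ := Reg.two_transitive hS (H.not_normal hwc) (H.core y hyb) hq₀ hpq.symm
  have hfix : ∀ (k : G) (p : G ⧸ Cent y), k • (g : G ⧸ Cent y) = p →
      (∀ h : G, h • p = p → h ∈ Cent (k * u * k⁻¹)) ∧ (∀ η, (k * u * k⁻¹) • η = η → η = p) := by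
    intro k p hkp
    subst hkp
    refine ⟨fun h hh => ?_, fun η hη => ?_⟩
    · rw [cent_conj, Subgroup.mem_map_equiv, MulAut.conj_symm_apply, hCu, cent_conj,
        Subgroup.mem_map_equiv, MulAut.conj_symm_apply]
      rw [Quotient.smul_mk, Quotient.smul_mk, QuotientGroup.eq, smul_eq_mul, smul_eq_mul] at hh
      simpa [mul_assoc] using (Cent y).inv_mem hh
    · have h1 := hugu (k⁻¹ • η) (by
        conv_rhs => rw [← hη]
        simp only [smul_smul]; congr 1; group)
      rw [← h1, smul_inv_smul]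
  obtain ⟨hvC, hvuniq⟩ := hfix k q hk2
  obtain ⟨hv'C, hv'uniq⟩ := hfix k' p hk'2
  set v := k * u * k⁻¹ with hv
  set v' := k' * u * k'⁻¹ with hv'
  have hordc : ∀ k : G, orderOf (k * u * k⁻¹) = s := fun k => by
    rw [← hou]
    exact orderOf_injective (MulAut.conj k).toMonoidHom (MulAut.conj k).injective u
  have hvx : v ∈ Cent x := mem_cent.2 (mem_cent.1 (hvC x hxq)).symm
  have hv'x : v' ∈ Cent x := mem_cent.2 (mem_cent.1 (hv'C x hxp)).symm
  have hxa : idx x = na := by
    rcases H.data.sizes x hx with h | h | h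
    · exact h
    · obtain ⟨g', -, huniq⟩ := H.exists_point hyb h
      exact absurd ((huniq p hxp).trans (huniq q hxq).symm) hpq
    · exfalso
      have h1 : orderOf x ∣ nb := H.cc_c h ▸ orderOf_dvd_cc x
      have h2 : orderOf x ∣ nc := by
        have h3 := Subgroup.orderOf_dvd_natCard _ (hvC x hxq)
        rwa [show Nat.card (Cent v) = nc from H.cc_b (by rw [hv, idx_conj, hub])] at h3
      have := Nat.eq_one_of_dvd_coprimes H.data.coprime_bc h1 h2
      rw [hox] at this
      exact hr.one_lt.ne' this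
  have hnc : ¬ Commute v v' := by
    intro hc
    have hfv' : v' • p = p := by
      rw [← hk'2, hv', smul_smul, inv_mul_cancel_right, mul_smul]
      congr 1
      have : u ∈ Cent (g * y * g⁻¹) := hCu ▸ self_mem u
      rw [cent_conj, Subgroup.mem_map_equiv, MulAut.conj_symm_apply] at this
      rw [Quotient.smul_mk, QuotientGroup.eq, smul_eq_mul]
      simpa [mul_assoc] using (Cent y).inv_mem this
    have h1 : v' • v • p = v • p := by rw [← mul_smul, ← hc.eq, mul_smul, hfv']
    exact hpq (hvuniq p (hv'uniq _ h1))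
  refine ⟨hxa, ?_, v, v', hordc k, hordc k', hvx, hv'x, hnc⟩
  by_contra hsr
  have hcop : s.Coprime r := (Nat.coprime_primes hs hr).2 hsr
  have hle := H.data.cent_le_of_a hxa hvx (by rw [hv, hordc, hox]; exact hcop)
  exact hnc (mem_cent.1 (hle hv'x)).symm

/-- There is no such group. -/
theorem false : False := by
  classical
  cases nonempty_fintype G
  obtain ⟨l, y, hl, hoy, hyb⟩ := H.data.exists_prime_b
  haveI : Fintype (G ⧸ Cent y) := Fintype.ofFinite _
  obtain ⟨w, -, hwc⟩ := H.data.exC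
  haveI : Fintype (Cent w) := Fintype.ofFinite _
  obtain ⟨g, hg, hg2⟩ := Reg.exists_two_fixed (H.regSetup hyb hwc) (H.not_normal hwc)
  obtain ⟨⟨p, hp⟩, ⟨q, hq⟩, hpq⟩ :=
    (Finite.one_lt_card_iff_nontrivial.1 hg2).exists_pair_ne
  have hpq' : p ≠ q := fun e => hpq (Subtype.ext e)
  obtain ⟨r, x, hr, hox, hxg, -⟩ := exists_prime_power_elem hg
  have hstab : x ∈ stabilizer G p ⊓ stabilizer G q :=
    Subgroup.zpowers_le.2 (⟨hp, hq⟩ : g ∈ stabilizer G p ⊓ stabilizer G q) hxg
  have key : ∀ (s : ℕ) (u : G), s.Prime → orderOf u = s → idx u = nb → s = r := fun s u hs hou hub =>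
    (H.prime_eq hr hs hyb hox hpq' hstab.1 hstab.2 hou hub).2.1
  obtain ⟨hxa, hlr, v, v', hov, hov', hvx, hv'x, hnc⟩ :=
    H.prime_eq hr hl hyb hox hpq' hstab.1 hstab.2 hoy hyb
  have hx := ne_one_of_prime_order hr hox
  -- the least order is a power of `r`
  have hccx : cc x ∣ nc := by
    obtain ⟨m, hm⟩ := H.data.dvd
    have h1 := cc_mul_index x
    rw [show (Cent x).index = na from hxa, hm, ← H.hprod] at h1
    exact ⟨m, Nat.eq_of_mul_eq_mul_left (by have := H.data.one_lt_nb; omega : 0 < nb)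
      (by rw [← h1]; ring)⟩
  have hapow : ∀ s : ℕ, s.Prime → s ∣ cc x → s = r := by
    intro s hs hsa
    by_contra hsr
    have := Fact.mk hs
    obtain ⟨⟨z, hz⟩, hoz⟩ := exists_prime_orderOf_dvd_card' (G := Cent x) s hsa
    rw [Subgroup.orderOf_mk] at hoz
    have hz1 := ne_one_of_prime_order hs hoz
    have hle := H.data.cent_le_of_a hxa hz
      (by rw [hoz, hox]; exact (Nat.coprime_primes hs hr).2 hsr)
    rcases H.data.sizes z hz1 with h | h | h
    · have hle2 := H.data.cent_le_of_a h (hle hvx)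
        (by rw [hov, hoz, hlr]; exact (Nat.coprime_primes hr hs).2 (Ne.symm hsr))
      exact hnc (mem_cent.1 (hle2 (hle hv'x))).symm
    · exact hsr (key s z hs hoz h)
    · have h1 : s ∣ nb := H.cc_c h ▸ hoz ▸ orderOf_dvd_cc z
      exact hs.one_lt.ne' (Nat.eq_one_of_dvd_coprimes H.data.coprime_bc h1 (hsa.trans hccx))
  -- the second order is a power of `r`
  have hbpow : ∀ s : ℕ, s.Prime → s ∣ nc → s = r := by
    intro s hs hsb
    by_contra hsr
    obtain ⟨z, P, hoz, -, -, hzi⟩ := exists_central_elem hs (H.hprod ▸ dvd_mul_of_dvd_right hsb nb)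
    have hz1 := ne_one_of_prime_order hs hoz
    have hsG : s ∣ cc z * (Cent z).index := by
      rw [cc_mul_index, ← H.hprod]; exact dvd_mul_of_dvd_right hsb nb
    have hsc : s ∣ cc z := (hs.dvd_mul.1 hsG).resolve_right hzi
    rcases H.data.sizes z hz1 with h | h | h
    · refine hsr (hapow s hs ?_)
      rwa [cc_eq_of_idx (hxa.trans h.symm)]
    · exact hsr (key s z hs hoz h)
    · exact hs.one_lt.ne' (Nat.eq_one_of_dvd_coprimes H.data.coprime_bc (H.cc_c h ▸ hsc) hsb)
  -- `G` is a product of nilpotent groups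
  have := Fact.mk hr
  have hK : IsPGroup r (Cent y) := IsPGroup.of_card (n := nc.primeFactorsList.length)
    ((H.cc_b hyb).trans (Nat.eq_prime_pow_of_unique_prime_dvd (by have := H.data.one_lt_nc; omega)
      fun {d} hd hdb => hbpow d hd hdb))
  refine H.data.ns (CfsgLib.Factor.isSolvable_of_nilpotent_factor (A := Cent y) (B := Cent w)
    hK.isNilpotent ?_ (CfsgLib.TwoClassSizes.exists_mul ?_))
  · letI : CommGroup (Cent w) := { (inferInstance : Group (Cent w)) with
      mul_comm := fun a b => Subtype.ext ((H.sc w hwc).comm a.2 b.2) }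
    infer_instance
  · rw [show (Cent y).index = nb from hyb, show (Cent w).index = nc from hwc]
    exact H.data.coprime_bc

end CoreFree

end CfsgLib.ClassSize.RankThree
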