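import Cfsg.Agent.Lib.ClassSize.RankThree.Two

/-!
# Two primes: contradiction
-/

set_option autoImplicit false
set_option linter.unusedSectionVars false

open scoped Pointwise

namespace CfsgLib.ClassSize.RankThree

open Subgroup CfsgLib.ConjRankThree

universe u

variable {G : Type u} [Group G] [Finite G]

/-- If a group has a solvable subgroup meeting its conjugates trivially outside its normaliser, a
nilpotent subgroup of coprime index, and commuting elements of the normaliser lie in it as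
stated, it is solvable. -/
theorem isSolvable_of_ti {K W : Subgroup G} (hK : Group.IsSolvable K) (hW : Group.IsNilpotent W)
    (hcop : K.index.Coprime W.index)
    (hti : ∀ g : G, K ⊓ (MulAut.conj g • K) ≠ ⊥ → g ∈ normalizer (K : Set G))
    (hfpf : normalizer (K : Set G) ≠ K → ∃ (w : G) (r : ℕ), r.Prime ∧ orderOf w = r ∧
      w ∈ normalizer (K : Set G) ∧ ∀ k ∈ K, Commute w k → k = 1) :
    Group.IsSolvable G := by
  by_cases hnil : Group.IsNilpotent K
  · exact CfsgLib.Factor.isSolvable_of_nilpotent_factor hnil hW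
      (CfsgLib.TwoClassSizes.exists_mul hcop)
  by_cases hN : normalizer (K : Set G) = K
  · by_cases htop : K = ⊤
    · subst htop
      exact Group.isSolvable_of_isSolvable_injective (f := (Subgroup.topEquiv (G := G)).symm.toMonoidHom)
        (MulEquiv.injective _)
    have hne : K ≠ ⊥ := fun e => hnil (by
      haveI : Subsingleton K := by rw [e]; infer_instance
      infer_instance)
    have hF : Cfsg.IsFrobeniusComplement K :=
      ⟨hne, htop, fun g hg => by_contra fun h => hg (by
        have h1 := hti g h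
        rwa [hN] at h1)⟩
    obtain ⟨N, hNc, hNn, hNnil⟩ := Cfsg.Agent.S0042.result K hF
    obtain ⟨N', hN'c, -, hcompl⟩ := Cfsg.Agent.S0035.result K hF
    obtain rfl : N' = N := SetLike.coe_injective (hN'c.trans hNc.symm)
    haveI := hNn
    haveI := hNnil
    haveI : Group.IsSolvable (G ⧸ N') := by
      refine Group.isSolvable_of_surjective (f := (QuotientGroup.mk' N').comp K.subtype) ?_
      intro z
      obtain ⟨g, rfl⟩ := QuotientGroup.mk'_surjective N' z
      obtain ⟨⟨n, k⟩, hnk⟩ := hcompl.2 g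
      refine ⟨k, ?_⟩
      simp only [MonoidHom.coe_comp, Function.comp_apply, coe_subtype]
      rw [← hnk, map_mul, show QuotientGroup.mk' N' (n : G) = 1 from (QuotientGroup.eq_one_iff _).2 n.2,
        one_mul]
    exact Group.isSolvable_of_ker_le_range N'.subtype (QuotientGroup.mk' N') (by simp)
  · exfalso
    obtain ⟨w, r, hr, hwr, hwN, hfix⟩ := hfpf hN
    have hwa : ∀ {k : G}, k ∈ K → w * k * w⁻¹ ∈ K := fun hk => (mem_normalizer_iff.1 hwN _).1 hk
    have hwa' : ∀ {k : G}, k ∈ K → w⁻¹ * k * w ∈ K := fun hk => by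
      have := (mem_normalizer_iff.1 (inv_mem hwN) _).1 hk
      rwa [inv_inv] at this
    let φ : K ≃* K :=
      { toFun := fun k => ⟨w * k * w⁻¹, hwa k.2⟩
        invFun := fun k => ⟨w⁻¹ * k * w, hwa' k.2⟩
        left_inv := fun k => Subtype.ext (by simp only; group)
        right_inv := fun k => Subtype.ext (by simp only; group)
        map_mul' := fun a b => Subtype.ext (by simp only [coe_mul]; group) }
    have hpow : ∀ (j : ℕ) (k : K), (((φ ^ j) k : K) : G) = w ^ j * k * (w ^ j)⁻¹ := by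
      intro j
      induction j with
      | zero => intro k; simp
      | succ j ih =>
        intro k
        rw [pow_succ, MulAut.mul_apply, ih]
        show w ^ j * (w * k * w⁻¹) * (w ^ j)⁻¹ = _
        rw [pow_succ]; group
    have hφ : MonoidHom.FixedPointFree (φ : K →* K) := fun k hk => Subtype.ext (hfix k k.2 (by
      have := congrArg Subtype.val hk
      exact mul_inv_eq_iff_eq_mul.1 this))
    refine hnil (Cfsg.Agent.S0033.result φ hφ r hr ?_)
    haveI := Fact.mk hr
    refine orderOf_eq_prime (MulEquiv.ext fun k => Subtype.ext ?_) fun h => hnil ?_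
    · rw [hpow, ← hwr, pow_orderOf_eq_one]; simp
    · haveI : Subsingleton K := ⟨fun a b => by
        have ha : ∀ c : K, c = 1 := fun c => hφ c (by rw [h]; rfl)
        rw [ha a, ha b]⟩
      infer_instance

namespace Setup

variable {na nb nc : ℕ} {W O R : Subgroup G} [O.Normal] (S : Setup na nb nc W O R)
include S

/-- An element of prime power order, prime to `nb`, of `R C(x)` is conjugate under `R` into `C(x)`. -/
theorem exists_conj_into {x k : G} (hx : idx x = nb) {r j : ℕ} (hr : r.Prime) (hrb : ¬ r ∣ nb)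
    (hk : orderOf k = r ^ j) (hmem : k ∈ Cent x ⊔ R) : ∃ h ∈ R, h * k * h⁻¹ ∈ Cent x := by
  haveI := Fact.mk hr
  haveI := S.rn
  set M := Cent x ⊔ R with hM
  obtain ⟨Q, hQ⟩ := S.exists_sylow_cent hx hrb
  have hQM : (Q : Subgroup G) ≤ M := hQ.trans le_sup_left
  obtain ⟨T, hT⟩ := ((CfsgLib.ClassSize.Three.isPGroup_zpowers hk).of_equiv
    (subgroupOfEquivOfLe (zpowers_le.2 hmem)).symm).exists_le_sylow
  obtain ⟨m, hm⟩ := MulAction.exists_smul_eq M T (Q.subtype hQM)
  have h1 : (⟨k, hmem⟩ : M) ∈ (T : Subgroup M) := hT (mem_subgroupOf.2 (mem_zpowers k))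
  have h2 : (m : G) * k * (m : G)⁻¹ ∈ (Q : Subgroup G) := by
    have h3 : m * ⟨k, hmem⟩ * m⁻¹ ∈ ((Q.subtype hQM : Sylow r M) : Subgroup M) := by
      rw [← hm]
      exact smul_mem_pointwise_smul (⟨k, hmem⟩ : M) (MulAut.conj m) _ h1
    exact h3
  obtain ⟨c, hc, h, hh, hch⟩ := mem_sup_of_normal_right.1 m.2
  refine ⟨h, hh, ?_⟩
  have h4 := hQ h2
  rw [← hch] at h4
  have h5 := mul_mem (mul_mem (inv_mem hc) h4) hc
  simpa [mul_assoc] using h5

/-- An element of a prime power order outside `R` meeting `R g C(x) g⁻¹` forces `g` to normalise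
`C(x) ⊔ O` modulo `R`. -/
theorem map_eq_of_meet {x y : G} {p q : ℕ} (hp : p.Prime) (hpb : ¬ p ∣ nb) (hxo : orderOf x = p)
    (hx : idx x = nb) (hq : q.Prime) (hqb : ¬ q ∣ nb) (hyo : orderOf y = q) (hy : idx y = nb)
    (hpq : p ≠ q) (hxy : Cent x = Cent y) {g a : G} {r j : ℕ} (hr : r.Prime) (hrb : ¬ r ∣ nb)
    (haR : a ∉ R) (ha : orderOf a = r ^ j) (hax : a ∈ Cent x)
    (hag : a ∈ Cent (g * x * g⁻¹) ⊔ R) :
    Cent (g * x * g⁻¹) ⊔ R = Cent x ⊔ R := by
  haveI := S.rn
  obtain ⟨h, hh, hha⟩ := S.exists_conj_into (show idx (g * x * g⁻¹) = nb by rw [idx_conj, hx]) hr hrb ha hag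
  have h1 : a ∈ Cent ((h⁻¹ * g) * x * (h⁻¹ * g)⁻¹) := by
    rw [show (h⁻¹ * g) * x * (h⁻¹ * g)⁻¹ = h⁻¹ * (g * x * g⁻¹) * h⁻¹⁻¹ by group, cent_conj,
      mem_map_equiv, MulAut.conj_symm_apply]
    simpa using hha
  have h2 := S.key hp hpb hxo hx hq hqb hyo hy hpq hxy haR
    (mem_cent.2 ((mem_cent.1 hax).map (QuotientGroup.mk' O)))
    (mem_cent.2 ((mem_cent.1 h1).map (QuotientGroup.mk' O)))
  have h3 := congrArg (· ⊔ R) h2
  simp only [sup_assoc, sup_eq_right.2 S.oR] at h3
  rw [← h3, show (h⁻¹ * g) * x * (h⁻¹ * g)⁻¹ = h⁻¹ * (g * x * g⁻¹) * h⁻¹⁻¹ by group, cent_conj h⁻¹]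
  refine le_antisymm (sup_le (fun c hc => ?_) le_sup_right) (sup_le ?_ le_sup_right)
  · have h4 : h⁻¹ * c * h⁻¹⁻¹ ∈
        (Cent (g * x * g⁻¹)).map (MulAut.conj h⁻¹).toMonoidHom ⊔ R :=
      mem_sup_left ⟨c, hc, rfl⟩
    have h5 := mul_mem (mul_mem (mem_sup_right hh : h ∈ _ ⊔ R) h4)
      (mem_sup_right (inv_mem hh) : h⁻¹ ∈ _ ⊔ R)
    simpa [mul_assoc] using h5
  · rintro _ ⟨c, hc, rfl⟩
    simp only [MulEquiv.coe_toMonoidHom, MulAut.conj_apply]
    exact mul_mem (mul_mem (mem_sup_right (inv_mem hh)) (mem_sup_left hc))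
      (mem_sup_right (inv_mem (inv_mem hh)))

/-- Two primes carrying elements of the smaller class size are impossible. -/
theorem false_of_two_primes {x₀ y₀ : G} {p q : ℕ} (hp : p.Prime) (hpb : ¬ p ∣ nb)
    (hxo : orderOf x₀ = p) (hx : idx x₀ = nb) (hq : q.Prime) (hqb : ¬ q ∣ nb) (hyo₀ : orderOf y₀ = q)
    (hy₀ : idx y₀ = nb) (hpq : p ≠ q) : False := by
  haveI := S.rn
  obtain ⟨y, hyo, hy, -, hxy⟩ := S.exists_shared hp hpb hxo hx hq hqb hyo₀ hy₀ hpq
  clear hy₀ hyo₀ y₀
  set x := x₀
  set f := QuotientGroup.mk' R with hf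
  have hsurj : Function.Surjective f := QuotientGroup.mk'_surjective R
  set K := (Cent x).map f with hK
  have hker : ∀ {a : G}, f a = 1 ↔ a ∈ R := fun {a} => QuotientGroup.eq_one_iff a
  have hmemK : ∀ {a : G}, f a ∈ K ↔ a ∈ Cent x ⊔ R := fun {a} => by
    have e : (Cent x ⊔ R) = K.comap f := by rw [hK, comap_map_eq, hf, QuotientGroup.ker_mk']
    rw [e, mem_comap]
  have hKsol : Group.IsSolvable K := by
    haveI := S.data.isSolvable_cent hp hxo hx
    exact Group.isSolvable_of_surjective ((f.subgroupMap_surjective (Cent x)))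
  have hWnil : Group.IsNilpotent (W.map f) := by
    haveI := S.nilW
    exact Group.nilpotent_of_surjective (f.subgroupMap W) (f.subgroupMap_surjective W)
  have hcop : K.index.Coprime (W.map f).index :=
    (S.data.coprime_bc.coprime_dvd_left (hx ▸ index_map_dvd (Cent x) hsurj)).coprime_dvd_right
      (S.index_W ▸ index_map_dvd W hsurj)
  -- the elements of prime order of `K` have order prime to `nb`
  have hKrho : ∀ (r : ℕ) (z : G ⧸ R), r.Prime → z ∈ K → orderOf z = r →
      ¬ r ∣ nb ∧ ∃ a : G, a ∈ Cent x ∧ (∃ j, orderOf a = r ^ j) ∧ f a = z ∧ a ∉ R := by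
    intro r z hr hz ho
    haveI := Fact.mk hr
    obtain ⟨g, hg, rfl⟩ := hz
    obtain ⟨a, ha, ⟨j, hj⟩, hae⟩ := exists_pPart R (r := r) (g := g) ⟨1, by rw [pow_one]; exact ho⟩
    have hax : a ∈ Cent x := zpowers_le.2 hg ha
    have haR : a ∉ R := fun h => by
      rw [hker.2 h] at hae
      rw [← hae, orderOf_one] at ho
      exact hr.ne_one ho.symm
    exact ⟨fun hrb => haR (S.mem_R_of_pi hp hpb hxo hx hr hrb hj hax), a, hax, ⟨j, hj⟩, hae, haR⟩
  refine S.data.ns ?_
  haveI : Group.IsSolvable (G ⧸ R) := by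
    refine isSolvable_of_ti hKsol hWnil hcop (fun z hz => ?_) fun hN => ?_
    · obtain ⟨g, rfl⟩ := hsurj z
      obtain ⟨c, hc, hc1⟩ := (bot_or_exists_ne_one _).resolve_left hz
      obtain ⟨r, v, hr, hvo, hvz, -⟩ := exists_prime_power_elem hc1
      have hv : v ∈ K ⊓ (MulAut.conj (f g) • K) := zpowers_le.2 hc hvz
      obtain ⟨hrb, a, hax, ⟨j, hj⟩, hae, haR⟩ := hKrho r v hr hv.1 hvo
      have hgc : (Cent (g * x * g⁻¹)).map f = MulAut.conj (f g) • K := by
        rw [cent_conj, hK, map_map, show f.comp (MulAut.conj g).toMonoidHom =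
          (MulAut.conj (f g)).toMonoidHom.comp f from MonoidHom.ext fun a => by simp, ← map_map]
        rfl
      have hag : a ∈ Cent (g * x * g⁻¹) ⊔ R := by
        have h1 : a ∈ ((Cent (g * x * g⁻¹)).map f).comap f := by rw [mem_comap, hgc, hae]; exact hv.2
        rwa [comap_map_eq, hf, QuotientGroup.ker_mk'] at h1
      have h2 := congrArg (Subgroup.map f)
        (S.map_eq_of_meet hp hpb hxo hx hq hqb hyo hy hpq hxy hr hrb haR hj hax hag)
      rw [Subgroup.map_sup, Subgroup.map_sup, (map_eq_bot_iff R).2 (by rw [hf, QuotientGroup.ker_mk']), sup_bot_eq,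
        sup_bot_eq, hgc] at h2
      replace h2 : MulAut.conj (f g) • K = K := h2
      refine mem_normalizer_iff.2 fun b => ?_
      conv_rhs => rw [← h2, CfsgLib.Frobenius.mem_conjSMul_iff]
      simp [mul_assoc]
    · obtain ⟨z₀, hz₀N, hz₀K⟩ : ∃ z ∈ normalizer (K : Set (G ⧸ R)), z ∉ K := by
        by_contra hno
        push Not at hno
        exact hN (le_antisymm hno le_normalizer)
      obtain ⟨r, hr, v, hv, ⟨i, hi⟩, hvK⟩ : ∃ r : ℕ, r.Prime ∧ ∃ v ∈ zpowers z₀,
          (∃ i, orderOf v = r ^ i) ∧ v ∉ K := by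
        by_contra hno
        push Not at hno
        exact hz₀K (CfsgLib.ClassSize.GraphSplit.mem_of_primary fun r hr a ha hk => hno r hr a ha hk)
      haveI := Fact.mk hr
      have hvN : v ∈ normalizer (K : Set (G ⧸ R)) := zpowers_le.2 hz₀N hv
      have hrb : r ∣ nb := by
        by_contra hrb
        obtain ⟨T, hT⟩ := ((CfsgLib.ClassSize.Three.isPGroup_zpowers hi)).exists_le_sylow
        obtain ⟨Q, hQ⟩ := S.exists_sylow_cent hx hrb
        -- `K` is normal in its normaliser and has full `r`-part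
        have hfull : ¬ r ∣ K.index := fun h => hrb (h.trans (hx ▸ index_map_dvd (Cent x) hsurj))
        have hKN : K ≤ normalizer (K : Set (G ⧸ R)) := le_normalizer
        set N := normalizer (K : Set (G ⧸ R))
        haveI : (K.subgroupOf N).Normal := normal_in_normalizer
        have h1 : ¬ r ∣ (K.subgroupOf N).index := fun h =>
          hfull (h.trans (Dvd.intro _ (relIndex_mul_index hKN)))
        refine hvK ?_
        have h2 : orderOf (QuotientGroup.mk' (K.subgroupOf N) ⟨v, hvN⟩) = 1 := by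
          refine Nat.eq_one_of_dvd_coprimes ((hr.coprime_iff_not_dvd.2 h1).pow_left i) ?_
            (orderOf_dvd_natCard _)
          rw [← hi, show orderOf v = orderOf (⟨v, hvN⟩ : N) from (Subgroup.orderOf_mk v hvN).symm]
          exact orderOf_map_dvd _ _
        exact mem_subgroupOf.1 ((QuotientGroup.eq_one_iff _).1 (orderOf_eq_one_iff.1 h2))
      -- a power of prime order
      have hi0 : i ≠ 0 := fun e => hvK (by
        rw [e, pow_zero, orderOf_eq_one_iff] at hi; rw [hi]; exact one_mem K)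
      set w := v ^ r ^ (i - 1) with hw
      have hwo : orderOf w = r := by
        rw [hw, orderOf_pow_of_dvd (pow_ne_zero _ hr.ne_zero) (hi ▸ pow_dvd_pow r (Nat.sub_le i 1)),
          hi, Nat.pow_div (Nat.sub_le i 1) hr.pos, Nat.sub_sub_self (by omega), pow_one]
      have hwK : w ∉ K := fun h => (hKrho r w hr h hwo).1 hrb
      refine ⟨w, r, hr, hwo, pow_mem hvN _, fun k hk hwk => ?_⟩
      by_contra hk1
      obtain ⟨s, k', hs, hk'o, hk'z, -⟩ := exists_prime_power_elem hk1
      haveI := Fact.mk hs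
      have hk' : k' ∈ K := zpowers_le.2 hk hk'z
      obtain ⟨hsb, -⟩ := hKrho s k' hs hk' hk'o
      have hc' : Commute w k' := by
        obtain ⟨m, rfl⟩ := mem_zpowers_iff.1 hk'z
        exact hwk.zpow_right m
      have hrs : r ≠ s := fun e => hsb (e ▸ hrb)
      have hcop' : (orderOf w).Coprime (orderOf k') := by
        rw [hwo, hk'o]; exact (Nat.coprime_primes hr hs).2 hrs
      obtain ⟨t, ht⟩ := hsurj (w * k')
      have hwt : w ∈ zpowers (f t) := by
        obtain ⟨m, hm1, hm2⟩ := Nat.chineseRemainder hcop' 1 0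
        refine mem_zpowers_iff.2 ⟨(m : ℤ), ?_⟩
        rw [zpow_natCast, ht, hc'.mul_pow, pow_eq_one_iff_modEq.2 hm2,
          pow_eq_pow_iff_modEq.2 hm1, pow_one, mul_one]
      have hkt : k' ∈ zpowers (f t) := by
        obtain ⟨m, hm1, hm2⟩ := Nat.chineseRemainder hcop' 0 1
        refine mem_zpowers_iff.2 ⟨(m : ℤ), ?_⟩
        rw [zpow_natCast, ht, hc'.mul_pow, pow_eq_one_iff_modEq.2 hm1,
          pow_eq_pow_iff_modEq.2 hm2, pow_one, one_mul]
      obtain ⟨m₁, hm₁⟩ := mem_zpowers_iff.1 hwt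
      obtain ⟨m₂, hm₂⟩ := mem_zpowers_iff.1 hkt
      rw [← map_zpow] at hm₁ hm₂
      obtain ⟨a, ha, ⟨ia, hia⟩, hae⟩ := exists_pPart R (r := r) (g := t ^ m₁)
        ⟨1, by rw [pow_one]; exact hm₁.symm ▸ hwo⟩
      obtain ⟨b, hb, ⟨ib, hib⟩, hbe⟩ := exists_pPart R (r := s) (g := t ^ m₂)
        ⟨1, by rw [pow_one]; exact hm₂.symm ▸ hk'o⟩
      have hfa : f a = w := hae.trans hm₁
      have hfb : f b = k' := hbe.trans hm₂
      have hab : Commute a b := by
        obtain ⟨e1, rfl⟩ := mem_zpowers_iff.1 ha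
        obtain ⟨e2, rfl⟩ := mem_zpowers_iff.1 hb
        exact (Commute.zpow_zpow_self t m₁ m₂).zpow_zpow e1 e2
      have haR : a ∉ R := fun h => hr.ne_one (by rw [← hwo, ← hfa, hker.2 h, orderOf_one])
      have hbR : b ∉ R := fun h => hs.ne_one (by rw [← hk'o, ← hfb, hker.2 h, orderOf_one])
      obtain ⟨h, hh, hbx⟩ := S.exists_conj_into hx hs hsb hib (hmemK.1 (hfb ▸ hk'))
      have hf1 : ∀ c : G, f (h * c * h⁻¹) = f c := fun c => by simp [map_mul, hker.2 hh]
      set a' := h * a * h⁻¹ with ha'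
      set b' := h * b * h⁻¹ with hb'
      have hia' : orderOf a' = r ^ ia := by rw [ha', CfsgLib.ClassSize.Three.orderOf_conj, hia]
      have hib' : orderOf b' = s ^ ib := by rw [hb', CfsgLib.ClassSize.Three.orderOf_conj, hib]
      have hab' : Commute a' b' := hab.map (MulAut.conj h).toMonoidHom
      have ha'R : a' ∉ R := fun e => haR (hker.1 (by rw [← hf1 a]; exact hker.2 e))
      have hb'R : b' ∉ R := fun e => hbR (hker.1 (by rw [← hf1 b]; exact hker.2 e))
      have hba := S.type_a hs hsb hib' hb'R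
      have hba' : b' ≠ 1 := fun e => hb'R (e ▸ one_mem R)
      have hco2 : (orderOf b').Coprime (orderOf a') := coprime_of_prime_pow hs hr hrs.symm hib' hia'
      rcases S.data.sizes a' (fun e => ha'R (e ▸ one_mem R)) with e | e | e
      · have h1 : Cent a' = Cent b' :=
          eq_of_le_of_idx (S.data.cent_le_of_a e (mem_cent.2 hab'.symm) hco2) (e.trans hba.symm)
        have h2 : Cent b' ≤ Cent x := by
          by_cases hsp : s = p
          · rw [hxy]
            refine S.data.cent_le_of_a hba (mem_cent.2 (mem_cent.1 (hxy ▸ hbx)).symm) ?_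
            rw [hyo, hib']
            exact ((Nat.coprime_primes hq hs).2 (by omega)).pow_right ib
          · refine S.data.cent_le_of_a hba (mem_cent.2 (mem_cent.1 hbx).symm) ?_
            rw [hxo, hib']
            exact ((Nat.coprime_primes hp hs).2 (Ne.symm hsp)).pow_right ib
        refine hwK ?_
        rw [← hfa, ← hf1 a]
        exact hmemK.2 (mem_sup_left (h2 (h1 ▸ self_mem a')))
      · exact ha'R (S.bR a' e)
      · have h1 : s ∣ cc a' := by
          refine dvd_trans ?_ (Subgroup.orderOf_dvd_natCard _ (mem_cent.2 hab'.symm : b' ∈ Cent a'))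
          rw [hib']
          exact dvd_pow_self s fun e0 => hba' (orderOf_eq_one_iff.1 (by rw [hib', e0, pow_zero]))
        refine hsb (S.primeW s hs ?_)
        have h3 := cc_mul_index a'
        rw [show (Cent a').index = nc from e, ← S.cardW] at h3
        rwa [← Nat.eq_of_mul_eq_mul_right (by have := S.data.one_lt_nc; omega) h3]
  haveI := S.rs
  exact Group.isSolvable_of_ker_le_range R.subtype f (by simp [hf])

/-- The configuration does not occur. -/
theorem false : False := by
  by_cases hex : ∃ (p : ℕ) (x : G), p.Prime ∧ ¬ p ∣ nb ∧ orderOf x = p ∧ idx x = nb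
  · obtain ⟨p, x, hp, hpb, hxo, hx⟩ := hex
    by_cases honly : ∀ (r : ℕ) (y : G), r.Prime → ¬ r ∣ nb → orderOf y = r → idx y = nb → r = p
    · exact S.false_of_one_prime hp hpb hxo hx honly
    · push Not at honly
      obtain ⟨q, y, hq, hqb, hyo, hy, hqp⟩ := honly
      exact S.false_of_two_primes hp hpb hxo hx hq hqb hyo hy hqp.symm
  · push Not at hex
    exact S.finish_full fun r hr hrb hrR => S.not_dvd_na hr hrb hrR fun z hz => hex r z hr hrb hz

end Setup

end CfsgLib.ClassSize.RankThree
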