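import Cfsg.Agent.Lib.ClassSize.RankThree.CoreFree
import Cfsg.Agent.Lib.ClassSize.RankThree.Frob
import Cfsg.Agent.Lib.KazarinClass.Commute
import Cfsg.Agent.Lib.CA.Basic

/-!
# No nonsolvable group with trivial centre has three class sizes, one properly dividing another
-/

set_option autoImplicit false
set_option linter.unusedSectionVars false

namespace CfsgLib.ClassSize.RankThree

open Subgroup CfsgLib CfsgLib.ConjRankThree

universe u

variable {G : Type u} [Group G] [Finite G] {na nb nc : ℕ}

/-- A normal subgroup of order prime to the index of a subgroup lies in it. -/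
theorem le_of_coprime_index (N K : Subgroup G) [N.Normal] (h : (Nat.card N).Coprime K.index) :
    N ≤ K := by
  refine le_sup_right.trans (relIndex_eq_one.1 (Nat.eq_one_of_dvd_coprimes h (k := K.relIndex (K ⊔ N)) ?_
    ⟨_, (relIndex_mul_index (le_sup_left : K ≤ K ⊔ N)).symm⟩))
  refine Nat.dvd_of_mul_dvd_mul_left (Nat.card_pos (α := K)) ?_
  have h3 : Nat.card K * K.relIndex (K ⊔ N) = Nat.card ↥(K ⊔ N) := by
    rw [show K.relIndex (K ⊔ N) = (K.subgroupOf (K ⊔ N)).index from rfl,
      ← Nat.card_congr (subgroupOfEquivOfLe (le_sup_left : K ≤ K ⊔ N)).toEquiv]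
    exact card_mul_index _
  rw [h3, sup_comm, mul_comm]
  exact CfsgLib.Solvable.card_sup_dvd_mul N K

/-- If a centraliser of class size `nb` has nontrivial core, it contains, with all the others, the
normal closure of its element. -/
theorem normalClosure_le_cent (D : Data G na nb nc) (hprod : nb * nc = Nat.card G) {u₀ : G}
    (hu₀ : idx u₀ = nb) (hcore : (Cent u₀).normalCore ≠ ⊥) {y : G} (hy : idx y = nb) :
    normalClosure ({u₀} : Set G) ≤ Cent y := by
  classical
  have hcc : ∀ {g : G} {i j : ℕ}, idx g = i → i * j = Nat.card G → 0 < i → cc g = j := by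
    intro g i j hg hij hi
    have h := cc_mul_index g
    rw [show (Cent g).index = i from hg, ← hij, mul_comm i] at h
    exact Nat.eq_of_mul_eq_mul_right hi h
  have hb1 := D.one_lt_nb
  have hc1 := D.one_lt_nc
  obtain ⟨t, ht, ht1⟩ := (bot_or_exists_ne_one _).resolve_left hcore
  set X := normalClosure ({u₀} : Set G) with hX
  have hXt : X ≤ Cent t := by
    refine (closure_le _).2 fun w hw => ?_
    obtain ⟨z, hz, hzw⟩ := Group.mem_conjugatesOfSet_iff.1 hw
    rw [Set.mem_singleton_iff.1 hz] at hzw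
    obtain ⟨c, rfl⟩ := isConj_iff.1 hzw
    have h1 := (normalCore_le (Cent u₀)) ((normalCore_normal (Cent u₀)).conj_mem t ht c⁻¹)
    have h2 := (mem_cent.1 h1).map (MulAut.conj c).toMonoidHom
    simp only [MulEquiv.coe_toMonoidHom, MulAut.conj_apply, inv_inv] at h2
    rw [show c * (c⁻¹ * t * c) * c⁻¹ = t by group] at h2
    exact mem_cent.2 h2.symm
  have hXcop : (Nat.card X).Coprime nb := by
    refine Nat.coprime_of_dvd fun r hr h1 h2 => ?_
    haveI := Fact.mk hr
    obtain ⟨⟨w, hw⟩, hwo⟩ := exists_prime_orderOf_dvd_card' (G := X) r h1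
    rw [Subgroup.orderOf_mk] at hwo
    have hw1 := ne_one_of_prime_order hr hwo
    have hr1 : ¬ r ∣ nc := fun h => hr.ne_one (Nat.eq_one_of_dvd_coprimes D.coprime_bc h2 h)
    have hwcc : r ∣ cc w := hwo ▸ orderOf_dvd_cc w
    have htw : t ∈ Cent w := mem_cent.2 (mem_cent.1 (hXt hw)).symm
    have htb : orderOf t ∣ nc := by
      rw [← hcc hu₀ hprod (by omega)]
      exact Subgroup.orderOf_dvd_natCard _ (normalCore_le (Cent u₀) ht)
    rcases D.sizes w hw1 with e | e | e
    · refine hr1 (hwcc.trans ?_)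
      obtain ⟨m, hm⟩ := D.dvd
      have h3 := cc_mul_index w
      rw [show (Cent w).index = na from e, hm, ← hprod] at h3
      exact ⟨m, Nat.eq_of_mul_eq_mul_left (by omega : 0 < nb) (by rw [← h3]; ring)⟩
    · exact hr1 (hcc e hprod (by omega) ▸ hwcc)
    · refine ht1 (orderOf_eq_one_iff.1 (Nat.eq_one_of_dvd_coprimes D.coprime_bc ?_ htb))
      rw [← hcc (j := nb) e (by rw [mul_comm, hprod]) (by omega)]
      exact Subgroup.orderOf_dvd_natCard _ htw
  haveI : X.Normal := normalClosure_normal
  exact le_of_coprime_index X (Cent y) (by rwa [show (Cent y).index = nb from hy])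

/-- In that case every element of class size `nb` has an abelian normal closure. -/
theorem commute_normalClosure (D : Data G na nb nc) (hprod : nb * nc = Nat.card G) {u₀ : G}
    (hu₀ : idx u₀ = nb) (hcore : (Cent u₀).normalCore ≠ ⊥) {u : G} (hu : idx u = nb) :
    ∀ a ∈ normalClosure ({u} : Set G), ∀ b ∈ normalClosure ({u} : Set G), Commute a b := by
  haveI : (normalClosure ({u₀} : Set G)).Normal := normalClosure_normal
  have hu' : (Cent u).normalCore ≠ ⊥ := fun e => D.ne_one_b hu₀ (by
    have h1 : normalClosure ({u₀} : Set G) ≤ (Cent u).normalCore :=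
      normal_le_normalCore.2 (normalClosure_le_cent D hprod hu₀ hcore hu)
    rw [e] at h1
    exact mem_bot.1 (h1 (subset_normalClosure (Set.mem_singleton u₀))))
  intro a ha b hb
  haveI : (normalClosure ({u} : Set G)).Normal := normalClosure_normal
  have h1 : normalClosure ({u} : Set G) ≤ centralizer (normalClosure ({u} : Set G) : Set G) := by
    refine normalClosure_le_normal (Set.singleton_subset_iff.2 (mem_centralizer_iff.2 fun c hc => ?_))
    exact (mem_cent.1 (normalClosure_le_cent D hprod hu hu' hu hc)).eq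
  exact (mem_centralizer_iff.1 (h1 hb) a ha)

/-- The configuration with self-centralizing centralisers of class size `nc`. -/
theorem false_of_not_primePow (D : Data G na nb nc) (hca : ¬ nc ∣ na)
    (hnb : ∀ l : ℕ, l.Prime → ∃ r : ℕ, r.Prime ∧ r ∣ nb ∧ r ≠ l) : False := by
  classical
  have hb1 := D.one_lt_nb
  have hc1 := D.one_lt_nc
  have hdvd : ∀ {g : G}, idx g = nc → nb ∣ cc g := fun {g} hg => by
    obtain ⟨x, -, hx⟩ := D.exB
    refine D.coprime_bc.dvd_of_dvd_mul_right ?_
    have h := cc_mul_index g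
    rw [show (Cent g).index = nc from hg] at h
    exact ⟨cc x, by rw [h, ← cc_mul_index x, show (Cent x).index = nb from hx]; ring⟩
  have hsc : ∀ w : G, idx w = nc → CA.SelfCent (Cent w) := by
    intro w₀ hw₀
    have hw₀1 := D.ne_one_c hw₀
    obtain ⟨p, w, hp, hwo, -, hle⟩ := exists_prime_power_elem hw₀1
    have hw1 := ne_one_of_prime_order hp hwo
    obtain ⟨hw, hCw⟩ := D.c_of_le hw1 hw₀ hle
    rw [← hCw]
    rcases commute_or_isPGroup hp hwo (D.minimal_c hw hca)
      (fun v hv h => (D.c_of_le hv hw h).2) with hab | hpg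
    · refine ⟨fun e => hw1 (mem_bot.1 (e ▸ self_mem w)), fun v hv hv1 => ?_⟩
      exact (D.c_of_le hv1 hw fun g hg => mem_cent.2 (hab g hg v hv)).2
    · exfalso
      haveI := Fact.mk hp
      obtain ⟨k, hk⟩ := IsPGroup.iff_card.1 hpg
      obtain ⟨r, hr, hrb, hrp⟩ := hnb p hp
      have h4 : r ∣ Nat.card (Cent w) := hrb.trans (hdvd hw)
      rw [hk] at h4
      exact hrp ((Nat.prime_dvd_prime_iff_eq hr hp).1 (hr.dvd_of_dvd_pow h4))
  have hprod : nb * nc = Nat.card G := by
    obtain ⟨x, -, hx⟩ := D.exB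
    obtain ⟨y, hy1, hy⟩ := D.exC
    have hd : Nat.card ↥(Cent x ⊓ Cent y) = 1 := by
      refine card_eq_one.2 ((eq_bot_iff_forall _).2 fun v hv => by_contra fun hv1 => ?_)
      have hCv : Cent v = Cent y := (hsc y hy).centralizer_eq v hv.2 hv1
      have hxy : x ∈ Cent y := hCv ▸ mem_cent.2 (mem_cent.1 hv.1).symm
      have hCx : Cent x = Cent y := (hsc y hy).centralizer_eq x hxy (D.ne_one_b hx)
      refine D.ne_bc ?_
      rw [← hx, ← hy]
      exact congrArg Subgroup.index hCx
    have h := D.card_inf hx hy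
    rwa [hd, one_mul] at h
  by_cases hcore : ∀ u : G, idx u = nb → (Cent u).normalCore = ⊥
  · exact CoreFree.false (⟨D, hsc, hprod, hcore⟩ : CoreFree G na nb nc)
  push Not at hcore
  obtain ⟨u₀, hu₀, hcore⟩ := hcore
  obtain ⟨R, hRn, hRs, hRmax⟩ := CfsgLib.ThreeClass.exists_radical G
  obtain ⟨w, -, hw⟩ := D.exC
  have hcw : cc w = nb := by
    have h := cc_mul_index w
    rw [show (Cent w).index = nc from hw, ← hprod] at h
    exact Nat.eq_of_mul_eq_mul_right (by omega) h
  refine Setup.false (W := Cent w) (O := (⊥ : Subgroup G)) (R := R) (na := na) (nb := nb) (nc := nc)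
    ⟨D, ?_, ?_, fun r hr h => hcw ▸ h, hRn, hRs, hRmax, inferInstance, bot_le, fun r hr h => ?_,
      fun g hg => ?_, fun x p hp hpb hxo hx g => ?_⟩
  · letI : CommGroup (Cent w) := { (inferInstance : Group (Cent w)) with
      mul_comm := fun a b => Subtype.ext ((hsc w hw).comm a.2 b.2) }
    infer_instance
  · show cc w * nc = _
    rw [hcw, hprod]
  · rw [card_bot, Nat.dvd_one] at h
    exact absurd h hr.ne_one
  · refine hRmax _ normalClosure_normal (Group.isSolvable_of_comm fun a b => Subtype.ext ?_)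
      (subset_normalClosure (Set.mem_singleton g))
    exact (commute_normalClosure D hprod hu₀ hcore hg a a.2 b b.2).eq
  · haveI : (normalClosure ({x} : Set G)).Normal := normalClosure_normal
    have h1 := subset_normalClosure (Set.mem_singleton x) (G := G)
    have h2 := commute_normalClosure D hprod hu₀ hcore hx x h1 _
      (normalClosure_normal.conj_mem x h1 g)
    rw [mem_bot, mul_inv_eq_one, mul_inv_eq_iff_eq_mul]
    exact h2.eq

/-- The configuration with `nb` a power of a prime. -/
theorem false_of_primePow (D : Data G na nb nc) (hca : ¬ nc ∣ na) {l : ℕ} (hl : l.Prime)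
    (hnb : ∀ r : ℕ, r.Prime → r ∣ nb → r = l) : False := by
  classical
  have hb1 := D.one_lt_nb
  have hc1 := D.one_lt_nc
  haveI := Fact.mk hl
  obtain ⟨l', hl', hl'd⟩ := Nat.exists_prime_and_dvd (show nb ≠ 1 by omega)
  have hlnb : l ∣ nb := hnb l' hl' hl'd ▸ hl'd
  obtain ⟨z, P, hzo, hzP, hPz, hz⟩ := D.exists_central_c hl hlnb
  have hz1 := ne_one_of_prime_order hl hzo
  have hzp : IsPGroup l (Cent z) := by
    rcases commute_or_isPGroup hl hzo (D.minimal_c hz hca)
      (fun v hv h => (D.c_of_le hv hz h).2) with hab | hpg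
    · obtain ⟨x, -, hx⟩ := D.exB
      have hd : Nat.card ↥(Cent x ⊓ Cent z) = 1 := by
        refine card_eq_one.2 ((eq_bot_iff_forall _).2 fun v hv => by_contra fun hv1 => ?_)
        have hCv := (D.c_of_le hv1 hz fun g hg => mem_cent.2 (hab g hg v hv.2)).2
        have hxz : x ∈ Cent z := hCv ▸ mem_cent.2 (mem_cent.1 hv.1).symm
        exact D.ne_bc (hx.symm.trans (D.c_of_le (D.ne_one_b hx) hz
          fun g hg => mem_cent.2 (hab g hg x hxz)).1)
      have h := D.card_inf hx hz
      rw [hd, one_mul, ← cc_mul_index z, show (Cent z).index = nc from hz] at h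
      refine IsPGroup.of_card (n := nb.primeFactorsList.length) ?_
      show cc z = _
      rw [← Nat.eq_of_mul_eq_mul_right (by omega : 0 < nc) h]
      exact Nat.eq_prime_pow_of_unique_prime_dvd (by omega) fun {d} hd hdd => hnb d hd hdd
    · exact hpg
  have hW : Cent z = (P : Subgroup G) := P.3 hzp hPz
  obtain ⟨R, hRn, hRs, hRmax⟩ := CfsgLib.ThreeClass.exists_radical G
  have hk : ∀ {g : G}, idx g = nb → ∃ k, (Cent g).index = l ^ k := fun {g} hg =>
    ⟨_, hg.trans (Nat.eq_prime_pow_of_unique_prime_dvd (by omega) fun {d} hd hdd => hnb d hd hdd)⟩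
  haveI : (Cfsg.pCore l G).Normal := CfsgLib.Solvable.pCore_normal l G
  have hOp : IsPGroup l (Cfsg.pCore l G) := CfsgLib.Solvable.pCore_isPGroup l G
  refine Setup.false (W := Cent z) (O := Cfsg.pCore l G) (R := R) (na := na) (nb := nb) (nc := nc)
    ⟨D, hzp.isNilpotent, ?_, fun r hr h => ?_, hRn, hRs, hRmax, inferInstance, ?_, fun r hr h => ?_,
      fun g hg => ?_, fun x p hp hpb hxo hx g => ?_⟩
  · have h := cc_mul_index z
    rwa [show (Cent z).index = nc from hz] at h
  · obtain ⟨k, hk⟩ := IsPGroup.iff_card.1 hzp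
    rw [hk] at h
    exact (Nat.prime_dvd_prime_iff_eq hr hl).1 (hr.dvd_of_dvd_pow h) ▸ hlnb
  · haveI := hOp.isNilpotent
    exact hRmax _ inferInstance inferInstance
  · obtain ⟨k, hk⟩ := IsPGroup.iff_card.1 hOp
    rw [hk] at h
    exact (Nat.prime_dvd_prime_iff_eq hr hl).1 (hr.dvd_of_dvd_pow h) ▸ hlnb
  · obtain ⟨k, hk⟩ := hk hg
    exact CfsgLib.ThreeClass.mem_radical_of_index hRmax hl hk
  · have h := CfsgLib.KazarinClass.commutator_conjugates_mem_pCore (p := l) (hk hx) 1 g
    simpa using h

/-- No size of a class properly divides another. -/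
theorem Data.false (D : Data G na nb nc) : False := by
  by_cases hB : ∃ l : ℕ, l.Prime ∧ ∀ r : ℕ, r.Prime → r ∣ nb → r = l
  · obtain ⟨l, hl, hB⟩ := hB
    exact false_of_primePow D D.not_both hl hB
  · push Not at hB
    exact false_of_not_primePow D D.not_both hB

end CfsgLib.ClassSize.RankThree
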