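import Cfsg.Agent.Lib.ClassSize.RankThree.Basic
import Cfsg.Agent.Lib.Solvable.SchurZassenhaus
import Cfsg.Agent.Lib.Frobenius.Basic

/-!
# Elements of order prime to a normal solvable subgroup, modulo that subgroup
-/

set_option autoImplicit false
set_option linter.unusedSectionVars false

open scoped Pointwise

namespace CfsgLib.ClassSize.RankThree

open Subgroup CfsgLib.ConjRankThree

universe u

variable {G : Type u} [Group G] [Finite G] (O : Subgroup G) [O.Normal]

/-- The image of an element of order prime to `O` has the same order. -/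
theorem orderOf_mk {m : G} (hco : (orderOf m).Coprime (Nat.card O)) :
    orderOf (QuotientGroup.mk' O m) = orderOf m := by
  refine Nat.dvd_antisymm (orderOf_map_dvd _ m) (orderOf_dvd_of_pow_eq_one ?_)
  have h1 : m ^ orderOf (QuotientGroup.mk' O m) ∈ O := by
    refine (QuotientGroup.eq_one_iff _).1 ?_
    show QuotientGroup.mk' O (m ^ _) = 1
    rw [map_pow, pow_orderOf_eq_one]
  refine orderOf_eq_one_iff.1 (Nat.eq_one_of_dvd_coprimes hco ?_ (Subgroup.orderOf_dvd_natCard O h1))
  exact orderOf_dvd_of_mem_zpowers (pow_mem (mem_zpowers m) _)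

/-- Elements of order prime to `O` with the same image are conjugate under `O`. -/
theorem exists_conj_of_mk_eq (hO : Group.IsSolvable O) {a m : G}
    (ha : (orderOf a).Coprime (Nat.card O)) (hm : (orderOf m).Coprime (Nat.card O))
    (h : QuotientGroup.mk' O a = QuotientGroup.mk' O m) : ∃ o ∈ O, o * a * o⁻¹ = m := by
  have hO' : zpowers m ≤ normalizer (O : Set G) := by
    rw [normalizer_eq_top_iff.2 inferInstance]; exact le_top
  have hord : orderOf a = orderOf m := by rw [← orderOf_mk O ha, ← orderOf_mk O hm, h]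
  have hle : zpowers a ≤ O ⊔ zpowers m := by
    refine zpowers_le.2 ?_
    have : a * m⁻¹ ∈ O := (QuotientGroup.eq_one_iff _).1 (by
      show QuotientGroup.mk' O (a * m⁻¹) = 1
      rw [map_mul, map_inv, h, mul_inv_cancel])
    simpa using mul_mem (mem_sup_left this) (mem_sup_right (mem_zpowers m) : m ∈ O ⊔ zpowers m)
  obtain ⟨o, ho, hconj⟩ := CfsgLib.Solvable.exists_conj_eq_of_coprime hO' hle
    (by rw [Nat.card_zpowers, Nat.card_zpowers, hord]) (by rw [Nat.card_zpowers]; exact hm.symm) (Or.inl hO)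
  have hmem : o⁻¹ * a * o⁻¹⁻¹ ∈ zpowers m := by
    have ha' : a ∈ MulAut.conj o • zpowers m := by rw [hconj]; exact mem_zpowers a
    rw [CfsgLib.Frobenius.mem_conjSMul_iff] at ha'
    rwa [inv_inv]
  refine ⟨o⁻¹, inv_mem ho, ?_⟩
  revert hmem
  generalize ho' : o⁻¹ = o'
  replace ho : o' ∈ O := ho' ▸ inv_mem ho
  clear hconj ho' o
  rename' o' => o
  intro hmem
  have hmk : QuotientGroup.mk' O (o * a * o⁻¹ * m⁻¹) = 1 := by
    rw [map_mul, map_mul, map_mul, show QuotientGroup.mk' O o = 1 from (QuotientGroup.eq_one_iff o).2 ho,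
      map_inv, map_inv, show QuotientGroup.mk' O o = 1 from (QuotientGroup.eq_one_iff o).2 ho, h]
    group
  have h1 : o * a * o⁻¹ * m⁻¹ ∈ O := (QuotientGroup.eq_one_iff _).1 hmk
  have h2 : o * a * o⁻¹ * m⁻¹ ∈ zpowers m := mul_mem hmem (inv_mem (mem_zpowers m))
  refine mul_inv_eq_one.1 (orderOf_eq_one_iff.1 (Nat.eq_one_of_dvd_coprimes hm ?_
    (Subgroup.orderOf_dvd_natCard O h1)))
  exact orderOf_dvd_of_mem_zpowers h2

/-- Centralisers of such elements map onto centralisers. -/
theorem cent_mk (hO : Group.IsSolvable O) {m : G} (hm : (orderOf m).Coprime (Nat.card O)) :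
    Cent (QuotientGroup.mk' O m) = (Cent m).map (QuotientGroup.mk' O) := by
  refine le_antisymm (fun x hx => ?_) ?_
  · obtain ⟨g, rfl⟩ := QuotientGroup.mk'_surjective O x
    have h : QuotientGroup.mk' O (g * m * g⁻¹) = QuotientGroup.mk' O m := by
      rw [map_mul, map_mul, map_inv, (mem_cent.1 hx).eq, mul_inv_cancel_right]
    obtain ⟨o, ho, hco⟩ := exists_conj_of_mk_eq O hO
      (by rwa [CfsgLib.ClassSize.Three.orderOf_conj]) hm h
    refine ⟨o * g, mem_cent.2 ?_, ?_⟩
    · have : o * g * m * (o * g)⁻¹ = m := Eq.trans (by group) hco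
      exact mul_inv_eq_iff_eq_mul.1 this
    · rw [map_mul, show QuotientGroup.mk' O o = 1 from (QuotientGroup.eq_one_iff o).2 ho, one_mul]
  · rintro _ ⟨g, hg, rfl⟩
    exact mem_cent.2 ((mem_cent.1 hg).map _)

/-- An element whose image has prime power order has a power of prime power order with that image. -/
theorem exists_pPart {r : ℕ} [Fact r.Prime] {g : G}
    (h : ∃ k, orderOf (QuotientGroup.mk' O g) = r ^ k) :
    ∃ a ∈ zpowers g, (∃ k, orderOf a = r ^ k) ∧ QuotientGroup.mk' O a = QuotientGroup.mk' O g := by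
  obtain ⟨a, b, ha, hb, -, hab, hak, hbc⟩ := CfsgLib.ClassSize.Three.exists_split r g
  refine ⟨a, ha, hak, ?_⟩
  obtain ⟨j, rfl⟩ := mem_zpowers_iff.1 hb
  have hb1 : QuotientGroup.mk' O (g ^ j) = 1 := by
    obtain ⟨k, hk⟩ := h
    refine orderOf_eq_one_iff.1 (Nat.eq_one_of_dvd_coprimes (hbc.pow_right k)
      (orderOf_map_dvd _ _) ?_)
    rw [← hk, map_zpow]
    exact orderOf_dvd_of_mem_zpowers (zpow_mem (mem_zpowers _) j)
  conv_rhs => rw [← hab, map_mul, hb1, mul_one]

end CfsgLib.ClassSize.RankThree
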