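import Cfsg.Agent.Lib.ClassSize.RankThree.Clo

/-!
# A single prime carrying elements of the smaller class size
-/

set_option autoImplicit false
set_option linter.unusedSectionVars false

namespace CfsgLib.ClassSize.RankThree

open Subgroup CfsgLib.ConjRankThree

universe u

variable {G : Type u} [Group G] [Finite G]

namespace Setup

variable {na nb nc : ℕ} {W O R : Subgroup G} [O.Normal] (S : Setup na nb nc W O R)
include S

/-- A prime with a central Sylow element of class size `na` does not divide `na`. -/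
theorem not_dvd_na {r : ℕ} (hr : r.Prime) (hrb : ¬ r ∣ nb) (hrR : r ∣ R.index)
    (hno : ∀ x : G, orderOf x = r → idx x ≠ nb) : ¬ r ∣ na := by
  haveI := Fact.mk hr
  obtain ⟨z, -, hz, -, -, hzi⟩ := exists_central_elem hr (hrR.trans (index_dvd_card R))
  rcases S.data.sizes z (ne_one_of_prime_order hr hz) with e | e | e
  · exact fun h => hzi (h.trans e.symm.dvd)
  · exact absurd e (hno z hz)
  · exact absurd e (S.not_c hr hrb (hz.trans (pow_one r).symm) (ne_one_of_prime_order hr hz))

theorem false_of_one_prime {x : G} {p : ℕ} (hp : p.Prime) (hpb : ¬ p ∣ nb) (hxo : orderOf x = p)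
    (hx : idx x = nb)
    (honly : ∀ (r : ℕ) (y : G), r.Prime → ¬ r ∣ nb → orderOf y = r → idx y = nb → r = p) : False := by
  haveI := S.rn
  haveI := Fact.mk hp
  have hfull : ∀ r : ℕ, r.Prime → ¬ r ∣ nb → r ∣ R.index → r ≠ p → ¬ r ∣ na := fun r hr hrb hrR hrp =>
    S.not_dvd_na hr hrb hrR fun y hy e => hrp (honly r y hr hrb hy e)
  by_cases hpR : p ∣ R.index
  swap
  · exact S.finish_full fun r hr hrb hrR => hfull r hr hrb hrR fun e => hpR (e ▸ hrR)
  obtain ⟨u, i, hui, huR⟩ := S.exists_not_mem_R hp hpR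
  have hua := S.type_a hp hpb hui huR
  have hpi : ∀ r : ℕ, r.Prime → r ∣ R.index → r ≠ p → r ∣ nb := by
    intro r hr hrR hrp
    by_contra hrb
    haveI := Fact.mk hr
    obtain ⟨Q, hQ⟩ := (CfsgLib.ClassSize.exists_sylow_le_centralizer_iff r u).2
      (fun h => hfull r hr hrb hrR hrp (hua ▸ h))
    obtain ⟨v, hvQ, hvR⟩ : ∃ v ∈ (Q : Subgroup G), v ∉ R := by
      by_contra hno
      push Not at hno
      exact Q.not_dvd_index (hrR.trans (index_dvd_of_le hno))
    obtain ⟨k, hk⟩ := CfsgLib.ClassSize.Three.orderOf_of_mem Q.2 hvQ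
    have hva := S.type_a hr hrb hk hvR
    have hle : Cent u ≤ Cent v := S.data.cent_le_of_a hua (hQ hvQ)
      (coprime_of_prime_pow hr hp hrp hk hui)
    have heq : Cent u = Cent v := eq_of_le_of_idx hle (hua.trans hva.symm)
    set π := QuotientGroup.mk' O with hπ
    have hou : orderOf (π u) = p ^ i := (orderOf_mk O (S.coprimeO hp hpb hui)).trans hui
    have hov : orderOf (π v) = r ^ k := (orderOf_mk O (S.coprimeO hr hrb hk)).trans hk
    have hN : ∀ H : Subgroup (G ⧸ O), H ≤ normalizer (clo O x : Set (G ⧸ O)) := fun H => by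
      rw [normalizer_eq_top_iff.2 inferInstance]; exact le_top
    have hvu : Commute (π v) (π u) := (mem_cent.1 (hQ hvQ)).map π
    have hQU : zpowers (π v) ≤ centralizer (clo O x : Set (G ⧸ O)) := by
      refine CfsgLib.Solvable.thompson_pxq (P := zpowers (π u))
        (CfsgLib.ClassSize.Three.isPGroup_zpowers hou) ?_ (S.isPGroup_clo hp hpb hxo hx)
        (zpowers_le.2 (mem_centralizer_iff.2 fun y hy => ?_)) (hN _) (hN _) ?_
      · rw [Nat.card_zpowers, hov]
        exact ((Nat.coprime_primes hr hp).2 hrp).pow_left k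
      · obtain ⟨j, rfl⟩ := mem_zpowers_iff.1 hy
        exact (hvu.zpow_left j).eq
      · rintro t ⟨-, ht⟩
        have h1 : t ∈ Cent (π u) :=
          mem_cent.2 ((mem_centralizer_iff.1 ht (π u) (mem_zpowers _)).symm)
        rw [S.cent_map (S.coprimeO hp hpb hui), heq, ← S.cent_map (S.coprimeO hr hrb hk)] at h1
        refine mem_centralizer_iff.2 fun y hy => ?_
        obtain ⟨j, rfl⟩ := mem_zpowers_iff.1 hy
        exact ((mem_cent.1 h1).zpow_right j).symm.eq
    refine hvR (S.mem_R_of_centralizes hp hpb hxo hx fun t ht => mem_cent.2 ?_)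
    exact (mem_centralizer_iff.1 (hQU (mem_zpowers (π v))) t ht)
  refine S.data.ns ?_
  obtain ⟨P⟩ : Nonempty (Sylow p G) := inferInstance
  refine isSolvable_of_cover R (P : Subgroup G) W S.rs P.2.isNilpotent S.nilW fun r hr hrR => ?_
  by_cases hrp : r = p
  · exact Or.inl (hrp ▸ P.not_dvd_index)
  · exact Or.inr (S.not_dvd_W_index hr (hpi r hr hrR hrp))

end Setup

end CfsgLib.ClassSize.RankThree
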