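import Cfsg.Agent.Lib.ClassSize.RankThree.Mod
import Cfsg.Agent.Lib.ClassSize.RankThree.Both
import Cfsg.Agent.Lib.Solvable.CoprimeAction
import Cfsg.Agent.Lib.ClassSize.GraphSplit

/-!
# The configuration in which all elements of the smaller class size lie in the radical
-/

set_option autoImplicit false
set_option linter.unusedSectionVars false

namespace CfsgLib.ClassSize.RankThree

open Subgroup CfsgLib.ConjRankThree

universe u

variable {G : Type u} [Group G]

/-- `W` is a nilpotent Hall subgroup of the order of a centraliser of class size `nc`, its primes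
divide `nb`; elements of class size `nb` lie in the radical `R`, and those of prime order commute
with their conjugates modulo `O`. -/
structure Setup (na nb nc : ℕ) (W O R : Subgroup G) : Prop where
  data : Data G na nb nc
  nilW : Group.IsNilpotent W
  cardW : Nat.card W * nc = Nat.card G
  primeW : ∀ r : ℕ, r.Prime → r ∣ Nat.card W → r ∣ nb
  rn : R.Normal
  rs : Group.IsSolvable R
  rmax : ∀ N : Subgroup G, N.Normal → Group.IsSolvable N → N ≤ R
  onorm : O.Normal
  oR : O ≤ R
  oprime : ∀ r : ℕ, r.Prime → r ∣ Nat.card O → r ∣ nb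
  bR : ∀ g : G, idx g = nb → g ∈ R
  comm : ∀ (x : G) (p : ℕ), p.Prime → ¬ p ∣ nb → orderOf x = p → idx x = nb →
    ∀ g : G, x * (g * x * g⁻¹) * x⁻¹ * (g * x * g⁻¹)⁻¹ ∈ O

variable [Finite G]

theorem isNilpotent_cent_a {na nb nc : ℕ} (D : Data G na nb nc) {v : G} {r k : ℕ} (hr : r.Prime)
    (hk : orderOf v = r ^ k) (hv : idx v = na) : Group.IsNilpotent (Cent v) := by
  haveI := Fact.mk hr
  set Z := center (Cent v) with hZ
  have hq : IsPGroup r (Cent v ⧸ Z) := by
    intro g
    obtain ⟨h, rfl⟩ := QuotientGroup.mk_surjective g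
    obtain ⟨a, b, -, -, -, hab, ⟨i, hi⟩, hb⟩ := CfsgLib.ClassSize.Three.exists_split r h
    have hbZ : b ∈ Z := by
      have hle : Cent v ≤ Cent (b : G) :=
        D.cent_le_of_a hv b.2 (by rw [orderOf_coe, hk]; exact hb.pow_right k)
      exact mem_center_iff.2 fun c => Subtype.ext (mem_cent.1 (hle c.2)).eq
    refine ⟨i, ?_⟩
    rw [← hab, QuotientGroup.mk_mul, (QuotientGroup.eq_one_iff b).2 hbZ, mul_one,
      ← QuotientGroup.mk_pow, ← hi, pow_orderOf_eq_one, QuotientGroup.mk_one]
  haveI := hq.isNilpotent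
  exact Group.of_quotient_center_nilpotent this

theorem commute_of_commutator_mem {O : Subgroup G} [O.Normal] {a b : G}
    (h : a * b * a⁻¹ * b⁻¹ ∈ O) : Commute (QuotientGroup.mk' O a) (QuotientGroup.mk' O b) := by
  refine commutatorElement_eq_one_iff_commute.1 ?_
  rw [commutatorElement_def, ← map_inv, ← map_inv, ← map_mul, ← map_mul, ← map_mul]
  exact (QuotientGroup.eq_one_iff _).2 h

namespace Setup

variable {na nb nc : ℕ} {W O R : Subgroup G} (S : Setup na nb nc W O R)
include S

theorem index_W : W.index = nc :=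
  Nat.eq_of_mul_eq_mul_left (Nat.card_pos (α := W)) ((card_mul_index W).trans S.cardW.symm)

theorem not_dvd_W_index {r : ℕ} (hr : r.Prime) (h : r ∣ nb) : ¬ r ∣ W.index := fun hd =>
  hr.ne_one (Nat.eq_one_of_dvd_coprimes S.data.coprime_bc h (S.index_W ▸ hd))

theorem solvO : Group.IsSolvable O :=
  haveI := S.rs
  Group.isSolvable_of_isSolvable_injective (inclusion_injective S.oR)

theorem coprimeO {g : G} {r k : ℕ} (hr : r.Prime) (hrb : ¬ r ∣ nb) (hk : orderOf g = r ^ k) :
    (orderOf g).Coprime (Nat.card O) := by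
  rw [hk]
  exact (hr.coprime_iff_not_dvd.2 fun h => hrb (S.oprime r hr h)).pow_left k

theorem cent_map {g : G} (hco : (orderOf g).Coprime (Nat.card O)) :
    haveI := S.onorm
    Cent (QuotientGroup.mk' O g) = (Cent g).map (QuotientGroup.mk' O) :=
  haveI := S.onorm
  cent_mk O S.solvO hco

/-- A central element of a Sylow subgroup or an element outside `R`, of order prime to `nb`, has
class size `na`. -/
theorem not_c {g : G} {r k : ℕ} (hr : r.Prime) (hrb : ¬ r ∣ nb) (hk : orderOf g = r ^ k)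
    (hg : g ≠ 1) : idx g ≠ nc := fun e => by
  refine hrb (S.primeW r hr ?_)
  have h1 := cc_mul_index g
  rw [show (Cent g).index = nc from e, ← S.cardW] at h1
  rw [← Nat.eq_of_mul_eq_mul_right (by have := S.data.one_lt_nc; omega) h1]
  refine dvd_trans ?_ (orderOf_dvd_cc g)
  rw [hk]
  exact dvd_pow_self r fun e0 => hg (orderOf_eq_one_iff.1 (by rw [hk, e0, pow_zero]))

theorem type_a {g : G} {r k : ℕ} (hr : r.Prime) (hrb : ¬ r ∣ nb) (hk : orderOf g = r ^ k)
    (hg : g ∉ R) : idx g = na := by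
  have hg1 : g ≠ 1 := fun e => hg (e ▸ one_mem R)
  rcases S.data.sizes g hg1 with e | e | e
  · exact e
  · exact absurd (S.bR g e) hg
  · exact absurd e (S.not_c hr hrb hk hg1)

theorem exists_sylow_cent {x : G} (hx : idx x = nb) {r : ℕ} [Fact r.Prime] (hrb : ¬ r ∣ nb) :
    ∃ Q : Sylow r G, (Q : Subgroup G) ≤ Cent x :=
  (CfsgLib.ClassSize.exists_sylow_le_centralizer_iff r x).2 fun h => hrb (hx ▸ h)

theorem exists_not_mem_R {r : ℕ} (hr : r.Prime) (hd : r ∣ R.index) :
    ∃ (g : G) (k : ℕ), orderOf g = r ^ k ∧ g ∉ R := by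
  by_contra hno
  push Not at hno
  exact not_dvd_index_of_elements hr (fun g ⟨k, hk⟩ => hno g k hk) hd

/-- An element of `C(x)` of prime power order for a prime of `nb` lies in `R`. -/
theorem mem_R_of_pi {x v : G} {p r k : ℕ} (hp : p.Prime) (hpb : ¬ p ∣ nb) (hxo : orderOf x = p)
    (hx : idx x = nb) (hr : r.Prime) (hrb : r ∣ nb) (hk : orderOf v = r ^ k) (hv : v ∈ Cent x) :
    v ∈ R := by
  by_contra hvR
  haveI := Fact.mk hr
  have hco : (orderOf x).Coprime (orderOf v) := by
    rw [hxo, hk]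
    exact Nat.Coprime.pow_right k ((Nat.coprime_primes hp hr).2 fun e => hpb (e ▸ hrb))
  rcases S.data.sizes v (fun e => hvR (e ▸ one_mem R)) with e | e | e
  · obtain ⟨z, P, hzo, -, hP, hz⟩ := S.data.exists_central_c hr hrb
    obtain ⟨Q, hQ⟩ := (CfsgLib.ClassSize.Three.isPGroup_zpowers hk).exists_le_sylow
    obtain ⟨c, hc⟩ := MulAction.exists_smul_eq G P Q
    have hvz : Commute (c * z * c⁻¹) v := by
      have h1 : v ∈ (Q : Subgroup G) := hQ (mem_zpowers v)
      rw [← hc] at h1
      obtain ⟨w, hw, rfl⟩ := h1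
      exact ((mem_cent.1 (hP hw)).symm.map (MulAut.conj c).toMonoidHom)
    have hle : Cent v ≤ Cent x := S.data.cent_le_of_a e (mem_cent.2 (mem_cent.1 hv).symm) hco
    exact S.data.star hx (show idx (c * z * c⁻¹) = nc by rw [idx_conj, hz])
      (mem_cent.1 (hle (mem_cent.2 hvz))).symm
      (by rw [CfsgLib.ClassSize.Three.orderOf_conj, hzo, hxo]
          exact (Nat.coprime_primes hp hr).2 fun e => hpb (e ▸ hrb))
  · exact hvR (S.bR v e)
  · exact S.data.star hx e (mem_cent.1 hv).symm hco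

/-- If `na` avoids the primes of `G/R` not dividing `nb`, then `G` is solvable. -/
theorem finish_full (h : ∀ r : ℕ, r.Prime → ¬ r ∣ nb → r ∣ R.index → ¬ r ∣ na) : False := by
  haveI := S.rn
  refine S.data.ns ?_
  by_cases hex : ∃ r : ℕ, r.Prime ∧ ¬ r ∣ nb ∧ r ∣ R.index
  · obtain ⟨r₀, hr₀, hr₀b, hr₀d⟩ := hex
    obtain ⟨g, k, hk, hgR⟩ := S.exists_not_mem_R hr₀ hr₀d
    have hga := S.type_a hr₀ hr₀b hk hgR
    refine isSolvable_of_cover R (Cent g) W S.rs (isNilpotent_cent_a S.data hr₀ hk hga) S.nilW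
      fun r hr hd => ?_
    by_cases hrb : r ∣ nb
    · exact Or.inr (S.not_dvd_W_index hr hrb)
    · exact Or.inl (show ¬ r ∣ idx g from hga ▸ h r hr hrb hd)
  · push Not at hex
    exact isSolvable_of_cover R W W S.rs S.nilW S.nilW fun r hr hd =>
      Or.inl (S.not_dvd_W_index hr (by_contra fun hrb => hex r hr hrb hd))


end Setup

end CfsgLib.ClassSize.RankThree
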