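import Cfsg.Agent.Lib.ClassSize.RankThree.One
import Cfsg.Agent.S0033
import Cfsg.Agent.S0035
import Cfsg.Agent.S0042

/-!
# Two primes carrying elements of the smaller class size: the quotient by the radical is Frobenius
-/

set_option autoImplicit false
set_option linter.unusedSectionVars false

open scoped Pointwise

namespace CfsgLib.ClassSize.RankThree

open Subgroup CfsgLib.ConjRankThree

universe u

variable {G : Type u} [Group G] [Finite G]

namespace Setup

variable {na nb nc : ℕ} {W O R : Subgroup G} [O.Normal] (S : Setup na nb nc W O R)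
include S

/-- Elements of the smaller class size for two primes commute after a correction in `O`. -/
theorem exists_lift {x y : G} {p q : ℕ} (hp : p.Prime) (hpb : ¬ p ∣ nb) (hxo : orderOf x = p)
    (hx : idx x = nb) (hq : q.Prime) (hqb : ¬ q ∣ nb) (hyo : orderOf y = q) (hy : idx y = nb)
    (hpq : p ≠ q) (g : G) : ∃ o ∈ O, Commute x (o * g * y * (o * g)⁻¹) := by
  haveI := Fact.mk hp
  haveI := Fact.mk hq
  set π := QuotientGroup.mk' O with hπ
  have hdis : Disjoint (clo O x) (clo O y) := IsPGroup.disjoint_of_ne p q hpq _ _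
    (S.isPGroup_clo hp hpb hxo hx) (S.isPGroup_clo hq hqb hyo hy)
  have hc : Commute (π (g * y * g⁻¹)) (π x) :=
    (Subgroup.commute_of_normal_of_disjoint _ _ inferInstance inferInstance hdis _ _
      (S.self_mem_clo hp hpb hxo hx) (mem_clo O y g)).symm
  have hm : π (g * y * g⁻¹) ∈ Cent (π x) := mem_cent.2 hc
  rw [S.cent_map (S.coprimeO hp hpb (hxo.trans (pow_one p).symm))] at hm
  obtain ⟨w, hw, hwm⟩ := hm
  have hgy : (orderOf (g * y * g⁻¹)).Coprime (Nat.card O) :=
    S.coprimeO hq hqb (k := 1) (by rw [CfsgLib.ClassSize.Three.orderOf_conj, hyo, pow_one])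
  obtain ⟨a, ha, ⟨k, hk⟩, hae⟩ := exists_pPart O (r := q) (g := w)
    ⟨1, by rw [hwm, orderOf_mk O hgy, CfsgLib.ClassSize.Three.orderOf_conj, hyo, pow_one]⟩
  obtain ⟨o, ho, hoe⟩ := exists_conj_of_mk_eq O S.solvO hgy (S.coprimeO hq hqb hk)
    (hwm.symm.trans hae.symm)
  refine ⟨o, ho, ?_⟩
  rw [show o * g * y * (o * g)⁻¹ = a from Eq.trans (by group) hoe]
  obtain ⟨j, rfl⟩ := mem_zpowers_iff.1 ha
  exact (mem_cent.1 hw).symm.zpow_right j

/-- Two commuting elements of the smaller class size for different primes. -/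
theorem pair {x y : G} {p q : ℕ} (hp : p.Prime) (hxo : orderOf x = p) (hx : idx x = nb)
    (hq : q.Prime) (hyo : orderOf y = q) (hy : idx y = nb) (hpq : p ≠ q) (hc : Commute x y) :
    Cent x = Cent y ∨ (idx (x * y) = na ∧ Cent (x * y) = Cent x ⊓ Cent y ∧
      (orderOf (x * y)) = p * q) := by
  have hco : (orderOf x).Coprime (orderOf y) := by
    rw [hxo, hyo]; exact (Nat.coprime_primes hp hq).2 hpq
  have hcent := cent_mul hc hco
  have hord : orderOf (x * y) = p * q := by rw [hc.orderOf_mul_eq_mul_orderOf_of_coprime hco, hxo, hyo]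
  have hne : x * y ≠ 1 := fun e => by
    rw [e, orderOf_one] at hord
    exact hp.ne_one (Nat.eq_one_of_mul_eq_one_right hord.symm)
  rcases S.data.sizes _ hne with e | e | e
  · exact Or.inr ⟨e, hcent, hord⟩
  · left
    have h1 := eq_of_le_of_idx (hcent.le.trans inf_le_left) (e.trans hx.symm)
    have h2 := eq_of_le_of_idx (hcent.le.trans inf_le_right) (e.trans hy.symm)
    exact h1.symm.trans h2
  · exact absurd (e ▸ hx ▸ idx_dvd_of_le (hcent.le.trans inf_le_left)) S.data.not_b_dvd_c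

/-- Some conjugate of `y` has the centraliser of `x`. -/
theorem exists_shared {x y : G} {p q : ℕ} (hp : p.Prime) (hpb : ¬ p ∣ nb) (hxo : orderOf x = p)
    (hx : idx x = nb) (hq : q.Prime) (hqb : ¬ q ∣ nb) (hyo : orderOf y = q) (hy : idx y = nb)
    (hpq : p ≠ q) : ∃ y' : G, orderOf y' = q ∧ idx y' = nb ∧ Commute x y' ∧ Cent x = Cent y' := by
  by_contra hno
  push Not at hno
  refine S.finish_full fun r hr hrb _ hra => ?_
  haveI := Fact.mk hr
  obtain ⟨Q, hQ⟩ := S.exists_sylow_cent hx hrb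
  obtain ⟨Q', hQ'⟩ := S.exists_sylow_cent hy hrb
  obtain ⟨g, hg⟩ := MulAction.exists_smul_eq G Q' Q
  have hgy : (Q : Subgroup G) ≤ Cent (g * y * g⁻¹) := by
    intro w hw
    rw [← hg] at hw
    obtain ⟨w', hw', rfl⟩ := hw
    rw [cent_conj]
    exact mem_map_of_mem _ (hQ' hw')
  obtain ⟨o, ho, hc⟩ := S.exists_lift hp hpb hxo hx hq hqb hyo hy hpq g
  set y' := o * g * y * (o * g)⁻¹ with hy'
  have hy'o : orderOf y' = q := by rw [hy', CfsgLib.ClassSize.Three.orderOf_conj, hyo]
  have hy'b : idx y' = nb := by rw [hy', idx_conj, hy]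
  rcases S.pair hp hxo hx hq hy'o hy'b hpq hc with e | ⟨hm, hcent, hord⟩
  · exact hno y' hy'o hy'b hc e
  have hmco : (orderOf (x * y')).Coprime (Nat.card O) := by
    rw [hord]
    exact Nat.Coprime.mul_left
      (hxo ▸ S.coprimeO hp hpb (hxo.trans (pow_one p).symm))
      (hy'o ▸ S.coprimeO hq hqb (hy'o.trans (pow_one q).symm))
  set π := QuotientGroup.mk' O with hπ
  have hle : (Q : Subgroup G) ≤ Cent (x * y') ⊔ O := by
    intro w hw
    have h1 : π w ∈ Cent (π (x * y')) := by
      refine mem_cent.2 ?_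
      rw [map_mul]
      refine ((mem_cent.1 (hQ hw)).map π).mul_right ?_
      have h3 : π y' = π (g * y * g⁻¹) := by
        have ho1 : π o = 1 := (QuotientGroup.eq_one_iff o).2 ho
        simp [hy', map_mul, ho1]
      rw [h3]
      exact (mem_cent.1 (hgy hw)).map π
    rw [S.cent_map hmco] at h1
    obtain ⟨c, hc', hcw⟩ := h1
    have h2 : c⁻¹ * w ∈ O := QuotientGroup.eq.1 hcw
    rw [← mul_inv_cancel_left c w]
    exact mul_mem (mem_sup_left hc') (mem_sup_right h2)
  have h1 : ¬ r ∣ (Cent (x * y') ⊔ O).index := fun h => Q.not_dvd_index (h.trans (index_dvd_of_le hle))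
  have h2 : ¬ r ∣ (Cent (x * y')).relIndex (Cent (x * y') ⊔ O) := by
    intro h
    refine hrb (S.oprime r hr (h.trans ?_))
    refine Nat.dvd_of_mul_dvd_mul_left (Nat.card_pos (α := Cent (x * y'))) ?_
    have h3 : Nat.card (Cent (x * y')) * (Cent (x * y')).relIndex (Cent (x * y') ⊔ O) =
        Nat.card ↥(Cent (x * y') ⊔ O) := by
      have h4 : ((Cent (x * y')).subgroupOf (Cent (x * y') ⊔ O)).index =
          (Cent (x * y')).relIndex (Cent (x * y') ⊔ O) := rfl
      rw [← h4, ← Nat.card_congr (subgroupOfEquivOfLe (le_sup_left :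
        Cent (x * y') ≤ Cent (x * y') ⊔ O)).toEquiv]
      exact card_mul_index _
    rw [h3, sup_comm, mul_comm]
    exact CfsgLib.Solvable.card_sup_dvd_mul O (Cent (x * y'))
  have h7 : (Cent (x * y')).relIndex (Cent (x * y') ⊔ O) * (Cent (x * y') ⊔ O).index = idx (x * y') :=
    relIndex_mul_index le_sup_left
  rw [hm] at h7
  rw [← h7] at hra
  exact (hr.dvd_mul.1 hra).elim h2 h1

/-- Outside the radical, two conjugates of the common centraliser meet only if they are equal. -/
theorem key {x y : G} {p q : ℕ} (hp : p.Prime) (hpb : ¬ p ∣ nb) (hxo : orderOf x = p)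
    (hx : idx x = nb) (hq : q.Prime) (hqb : ¬ q ∣ nb) (hyo : orderOf y = q) (hy : idx y = nb)
    (hpq : p ≠ q) (hxy : Cent x = Cent y) {g v : G} (hv : v ∉ R)
    (h1 : QuotientGroup.mk' O v ∈ Cent (QuotientGroup.mk' O x))
    (h2 : QuotientGroup.mk' O v ∈ Cent (QuotientGroup.mk' O (g * x * g⁻¹))) :
    Cent (g * x * g⁻¹) ⊔ O = Cent x ⊔ O := by
  haveI := S.rn
  obtain ⟨o, ho, hc⟩ := S.exists_lift hp hpb hxo hx hq hqb hyo hy hpq g
  set π := QuotientGroup.mk' O with hπ
  set y' := o * g * y * (o * g)⁻¹ with hy'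
  set x' := o * g * x * (o * g)⁻¹ with hx'
  have hy'o : orderOf y' = q := by rw [hy', CfsgLib.ClassSize.Three.orderOf_conj, hyo]
  have hy'b : idx y' = nb := by rw [hy', idx_conj, hy]
  have hxy' : Cent x' = Cent y' := by rw [hx', hy', cent_conj, cent_conj, hxy]
  have hπx' : π x' = π (g * x * g⁻¹) := by
    have ho1 : π o = 1 := (QuotientGroup.eq_one_iff o).2 ho
    simp [hx', map_mul, ho1]
  have hcx : (orderOf x).Coprime (Nat.card O) := S.coprimeO hp hpb (hxo.trans (pow_one p).symm)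
  have hcx' : (orderOf x').Coprime (Nat.card O) := by
    rwa [hx', CfsgLib.ClassSize.Three.orderOf_conj]
  have hcgx : (orderOf (g * x * g⁻¹)).Coprime (Nat.card O) := by
    rwa [CfsgLib.ClassSize.Three.orderOf_conj]
  rcases S.pair hp hxo hx hq hy'o hy'b hpq hc with e | ⟨hm, hcent, hord⟩
  · have h3 : (Cent (g * x * g⁻¹)).map π = (Cent x).map π := by
      rw [← S.cent_map hcgx, ← hπx', S.cent_map hcx', hxy', ← e]
    have h4 := congrArg (Subgroup.comap π) h3
    rwa [comap_map_eq, comap_map_eq, QuotientGroup.ker_mk'] at h4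
  exfalso
  have hmco : (orderOf (x * y')).Coprime (Nat.card O) := by
    rw [hord]
    exact Nat.Coprime.mul_left (hxo ▸ hcx) (hy'o ▸ S.coprimeO hq hqb (hy'o.trans (pow_one q).symm))
  have hv2 : π v ∈ Cent (π y') := by
    rw [← hπx', S.cent_map hcx', hxy'] at h2
    obtain ⟨c, hc', hce⟩ := h2
    exact hce ▸ mem_cent.2 ((mem_cent.1 hc').map π)
  have hvm : π v ∈ Cent (π (x * y')) := by
    rw [map_mul]
    exact inf_cent_le_mul _ _ ⟨h1, hv2⟩
  rw [S.cent_map hmco] at hvm
  obtain ⟨g₀, hg₀, hg₀e⟩ := hvm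
  have hg₀R : g₀ ∉ R := fun h => hv (by
    have h2 : g₀⁻¹ * v ∈ R := S.oR (QuotientGroup.eq.1 hg₀e)
    simpa using mul_mem h h2)
  obtain ⟨r, hr, w, hw, ⟨k, hk⟩, hwR⟩ : ∃ r : ℕ, r.Prime ∧ ∃ w ∈ zpowers g₀,
      (∃ k, orderOf w = r ^ k) ∧ w ∉ R := by
    by_contra hno
    push Not at hno
    exact hg₀R (CfsgLib.ClassSize.GraphSplit.mem_of_primary fun r hr a ha hk =>
      hno r hr a ha hk)
  have hwm : w ∈ Cent (x * y') := zpowers_le.2 hg₀ hw
  rw [hcent] at hwm
  have hwx : Commute w x := mem_cent.1 hwm.1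
  have hwy : Commute w y' := mem_cent.1 hwm.2
  have hcr : ∀ {a : G} {s : ℕ}, s.Prime → orderOf a = s → r ≠ s → (orderOf a).Coprime (orderOf w) := by
    intro a s hs ha hrs
    rw [ha, hk]
    exact ((Nat.coprime_primes hs hr).2 hrs.symm).pow_right k
  rcases S.data.sizes w (fun e => hwR (e ▸ one_mem R)) with e | e | e
  · have hle : Cent w ≤ Cent x ⊓ Cent y' := by
      refine le_inf ?_ ?_
      · by_cases hrp : r = p
        · rw [hxy]
          refine S.data.cent_le_of_a e (mem_cent.2 (mem_cent.1 (hxy ▸ hwm.1)).symm) (hcr hq hyo ?_)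
          omega
        · exact S.data.cent_le_of_a e (mem_cent.2 hwx.symm) (hcr hp hxo hrp)
      · by_cases hrq : r = q
        · rw [← hxy']
          refine S.data.cent_le_of_a e (mem_cent.2 (mem_cent.1 (hxy'.symm ▸ hwm.2)).symm) (hcr hp ?_ ?_)
          · rw [hx', CfsgLib.ClassSize.Three.orderOf_conj, hxo]
          · omega
        · exact S.data.cent_le_of_a e (mem_cent.2 hwy.symm) (hcr hq hy'o hrq)
    have heq : Cent w = Cent (x * y') :=
      eq_of_le_of_idx (hle.trans hcent.ge) (e.trans hm.symm)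
    refine hwR (S.mem_R_of_centralizes hp hpb hxo hx fun t ht => ?_)
    have h3 : t ∈ Cent (π (x * y')) := by
      rw [map_mul]
      refine inf_cent_le_mul _ _ ⟨S.clo_le_cent hp hpb hxo hx ht, ?_⟩
      have h4 : t ∈ Cent (π x') := by
        refine mem_cent.2 ?_
        rw [hπx']
        exact S.commute_clo hp hpb hxo hx ht (mem_clo O x g)
      rw [S.cent_map hcx', hxy'] at h4
      obtain ⟨c, hc', rfl⟩ := h4
      exact mem_cent.2 ((mem_cent.1 hc').map π)
    rw [S.cent_map hmco, ← heq] at h3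
    obtain ⟨c, hc', rfl⟩ := h3
    exact mem_cent.2 ((mem_cent.1 hc').map π)
  · exact hwR (S.bR w e)
  · by_cases hrp : r = p
    · exact S.data.star hy'b e hwy.symm (hcr hq hy'o (by omega))
    · exact S.data.star hx e hwx.symm (hcr hp hxo hrp)

end Setup

end CfsgLib.ClassSize.RankThree
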